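import Mathlib
import Cfsg.Prelude.Def_CaseTheorems
import Cfsg.Agent.Lib.Cores
import Cfsg.Agent.Lib.VonDyck
set_option linter.all false

-- part: H581/SimsA
section
/-!
# Sims' shift argument: the chain of subgroups

`exists_chain`: let `P` be a finite subgroup of `G` and `g ∈ G` such that `P ∩ gPg⁻¹` has index 2 in `P`, and no
non-identity subgroup of `P` is normalised by `P` and by `g`. Then `P` has order `2 ^ N` and there is a chain
`1 = T 0 < T 1 < ... < T N = P` with `T (m + 1) ∩ g T (m + 1) g⁻¹ = g (T m) g⁻¹`.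
-/

set_option autoImplicit false

open Pointwise

namespace Cfsg.Agent.H581.Sims

variable {G : Type*} [Group G]

theorem div_mem_two {A C : Subgroup G} (h : A.relIndex C = 2) {x c : G} (hx : x ∈ C) (hxA : x ∉ A)
    (hc : c ∈ C) (hcA : c ∉ A) : c * x⁻¹ ∈ A := by
  have h1 : (A.subgroupOf C).index = 2 := h
  have h2 := Subgroup.mul_mem_iff_of_index_two h1 (a := (⟨c, hc⟩ : C)) (b := (⟨x, hx⟩ : C)⁻¹)
  have h3 : (⟨c, hc⟩ : C) * (⟨x, hx⟩ : C)⁻¹ ∈ A.subgroupOf C := by
    rw [h2]
    constructor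
    · intro h4
      exact absurd h4 hcA
    · intro h4
      exact absurd ((A.subgroupOf C).inv_mem_iff.1 h4) hxA
  exact h3

theorem le_normalizer_two {A C : Subgroup G} (hA : A ≤ C) (h : A.relIndex C = 2) :
    C ≤ Subgroup.normalizer (A : Set G) := by
  have h1 : (A.subgroupOf C).index = 2 := h
  have h2 : (A.subgroupOf C).Normal := Subgroup.normal_of_index_eq_two h1
  exact (Subgroup.normal_subgroupOf_iff_le_normalizer hA).1 h2

theorem le_of_two {A C X : Subgroup G} (h : A.relIndex C = 2) (hAX : A ≤ X)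
    (hX : ¬ X ⊓ C ≤ A) : C ≤ X := by
  rw [SetLike.not_le_iff_exists] at hX
  obtain ⟨x, ⟨hx1, hx2⟩, hx3⟩ := hX
  intro c hc
  by_cases hcA : c ∈ A
  · exact hAX hcA
  · have h1 := div_mem_two h hx2 hx3 hc hcA
    have h2 := X.mul_mem (hAX h1) hx1
    rwa [inv_mul_cancel_right] at h2

theorem card_mul_relIndex {A C : Subgroup G} (hA : A ≤ C) :
    Nat.card A * A.relIndex C = Nat.card C := by
  have h := Subgroup.relIndex_mul_relIndex ⊥ A C bot_le hA
  rwa [Subgroup.relIndex_bot_left, Subgroup.relIndex_bot_left] at h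

theorem relIndex_two_of_card {A C : Subgroup G} (hA : A ≤ C) {m : ℕ}
    (h1 : Nat.card A = 2 ^ m) (h2 : Nat.card C = 2 ^ (m + 1)) : A.relIndex C = 2 := by
  have h3 := card_mul_relIndex hA
  rw [h1, h2, pow_succ] at h3
  exact Nat.eq_of_mul_eq_mul_left (by positivity) h3

theorem relIndex_conj (x : G) (A C : Subgroup G) :
    (MulAut.conj x • A).relIndex (MulAut.conj x • C) = A.relIndex C :=
  Subgroup.relIndex_pointwise_smul _ _ _

theorem card_conj (x : G) (A : Subgroup G) : Nat.card (MulAut.conj x • A : Subgroup G) = Nat.card A :=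
  (Nat.card_congr (Subgroup.equivSMul (MulAut.conj x) A).toEquiv).symm

/-- The chain of subgroups obtained by intersecting `P` with its conjugates under the powers of `g⁻¹`. -/
def B (P : Subgroup G) (g : G) : ℕ → Subgroup G
  | 0 => P
  | j + 1 => B P g j ⊓ MulAut.conj g⁻¹ • B P g j

variable {P : Subgroup G} {g : G}

theorem B_succ_le (j : ℕ) : B P g (j + 1) ≤ B P g j := inf_le_left

theorem B_succ_le' (j : ℕ) : B P g (j + 1) ≤ MulAut.conj g⁻¹ • B P g j := inf_le_right

theorem conj_inv_smul (A : Subgroup G) : MulAut.conj g • MulAut.conj g⁻¹ • A = A := by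
  rw [smul_smul, ← map_mul, mul_inv_cancel, map_one, one_smul]

theorem conj_inv_smul' (A : Subgroup G) : MulAut.conj g⁻¹ • MulAut.conj g • A = A := by
  rw [smul_smul, ← map_mul, inv_mul_cancel, map_one, one_smul]

theorem conj_B_succ_le (j : ℕ) : MulAut.conj g • B P g (j + 1) ≤ B P g j := by
  have h := Subgroup.pointwise_smul_le_pointwise_smul_iff (a := MulAut.conj g) |>.2 (B_succ_le' (P := P) (g := g) j)
  rwa [conj_inv_smul] at h

theorem B_le (j : ℕ) : B P g j ≤ P := by
  induction j with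
  | zero => exact le_rfl
  | succ j ih => exact (B_succ_le j).trans ih

theorem relIndex_B_le [Finite G] (h2 : (MulAut.conj g • P).relIndex P = 2) (j : ℕ) :
    (B P g (j + 1)).relIndex (B P g j) ≤ 2 := by
  induction j with
  | zero =>
    have h3 : (B P g 1).relIndex (B P g 0) = 2 := by
      show (P ⊓ MulAut.conj g⁻¹ • P).relIndex P = 2
      rw [inf_comm, Subgroup.inf_relIndex_right]
      have e1 := card_mul_relIndex (A := P ⊓ MulAut.conj g • P) (C := P) inf_le_left
      have e2 := card_mul_relIndex (A := MulAut.conj g⁻¹ • P ⊓ P) (C := P) inf_le_right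
      rw [Subgroup.inf_relIndex_right] at e2
      rw [inf_comm, Subgroup.inf_relIndex_right, h2] at e1
      have e3 : Nat.card (MulAut.conj g⁻¹ • P ⊓ P : Subgroup G) = Nat.card (MulAut.conj g • P ⊓ P : Subgroup G) := by
        rw [← card_conj g (MulAut.conj g⁻¹ • P ⊓ P), Subgroup.smul_inf, conj_inv_smul, inf_comm]
      rw [e3, ← e1] at e2
      exact Nat.eq_of_mul_eq_mul_left Nat.card_pos e2
    exact h3.le
  | succ j ih =>
    have h1 : (B P g (j + 2)).relIndex (B P g (j + 1)) = (MulAut.conj g⁻¹ • B P g (j + 1)).relIndex (B P g (j + 1)) := by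
      show (B P g (j + 1) ⊓ MulAut.conj g⁻¹ • B P g (j + 1)).relIndex (B P g (j + 1)) = _
      rw [inf_comm, Subgroup.inf_relIndex_right]
    rw [h1]
    refine le_trans ?_ ih
    rw [← relIndex_conj g⁻¹ (B P g (j + 1)) (B P g j)]
    refine Subgroup.relIndex_le_of_le_right (B_succ_le' j) ?_
    exact Subgroup.index_ne_zero_of_finite

/-- **The chain of subgroups.** -/
structure Chain (g : G) (N : ℕ) (T : ℕ → Subgroup G) : Prop where
  card : ∀ m ≤ N, Nat.card (T m) = 2 ^ m
  le : ∀ m < N, T m ≤ T (m + 1)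
  cle : ∀ m < N, MulAut.conj g • T m ≤ T (m + 1)
  inf : ∀ m < N, T (m + 1) ⊓ MulAut.conj g • T (m + 1) ≤ MulAut.conj g • T m

theorem smul_normalizer (x : G) (A : Subgroup G) :
    MulAut.conj x • Subgroup.normalizer (A : Set G) = Subgroup.normalizer ((MulAut.conj x • A : Subgroup G) : Set G) := by
  ext y
  rw [Subgroup.mem_pointwise_smul_iff_inv_smul_mem, ← map_inv, MulAut.smul_def, MulAut.conj_apply, inv_inv]
  simp only [Subgroup.mem_normalizer_iff, Subgroup.mem_pointwise_smul_iff_inv_smul_mem, ← map_inv,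
    MulAut.smul_def, MulAut.conj_apply, inv_inv]
  constructor
  · intro h z
    have := h (x⁻¹ * z * x)
    rw [this]
    have e : x⁻¹ * y * x * (x⁻¹ * z * x) * (x⁻¹ * y * x)⁻¹ = x⁻¹ * (y * z * y⁻¹) * x := by group
    rw [e]
  · intro h z
    have := h (x * z * x⁻¹)
    have e1 : x⁻¹ * (x * z * x⁻¹) * x = z := by group
    have e2 : x⁻¹ * (y * (x * z * x⁻¹) * y⁻¹) * x = x⁻¹ * y * x * z * (x⁻¹ * y * x)⁻¹ := by group
    rw [e1, e2] at this
    exact this

theorem B_le_normalizer [Finite G] {j : ℕ} (hj : ∀ i < j, (B P g (i + 1)).relIndex (B P g i) = 2)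
    (hjj : MulAut.conj g • B P g j = B P g j) (k : ℕ) (hk : k ≤ j) :
    B P g (j - k) ≤ Subgroup.normalizer (B P g j : Set G) := by
  have hinv : MulAut.conj g⁻¹ • B P g j = B P g j := by
    conv_lhs => rw [← hjj]
    exact conj_inv_smul' _
  have hginv : MulAut.conj g⁻¹ • Subgroup.normalizer (B P g j : Set G) = Subgroup.normalizer (B P g j : Set G) := by
    rw [smul_normalizer, hinv]
  have hg : MulAut.conj g • Subgroup.normalizer (B P g j : Set G) = Subgroup.normalizer (B P g j : Set G) := by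
    rw [smul_normalizer, hjj]
  induction k with
  | zero => exact Subgroup.le_normalizer
  | succ k ih =>
    have ih := ih (by omega)
    rcases Nat.eq_zero_or_pos k with rfl | hkpos
    · have h1 : j - (0 + 1) + 1 = j := by omega
      have h2 := hj (j - (0 + 1)) (by omega)
      have h3 := B_succ_le (P := P) (g := g) (j - (0 + 1))
      rw [h1] at h2 h3
      exact le_normalizer_two h3 h2
    · set i := j - (k + 1) with hi
      have hi1 : j - k = i + 1 := by omega
      rw [hi1] at ih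
      have h2 : (B P g (i + 1)).relIndex (B P g i) = 2 := hj i (by omega)
      have h3 : (B P g (i + 2)).relIndex (B P g (i + 1)) = 2 := hj (i + 1) (by omega)
      have h4 : (B P g (i + 1)).relIndex (MulAut.conj g⁻¹ • B P g i) = 2 := by
        have e1 := card_mul_relIndex (B_succ_le' (P := P) (g := g) i)
        have e2 := card_mul_relIndex (B_succ_le (P := P) (g := g) i)
        rw [card_conj, ← e2, h2] at e1
        exact Nat.eq_of_mul_eq_mul_left Nat.card_pos e1
      have h5 : MulAut.conj g⁻¹ • B P g i ≤ Subgroup.normalizer (B P g j : Set G) := by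
        refine le_of_two h4 ih ?_
        intro hle
        have h6 : MulAut.conj g⁻¹ • B P g (i + 1) ≤ B P g (i + 1) := by
          refine le_trans (le_inf ?_ ?_) hle
          · rw [← hginv]
            exact Subgroup.pointwise_smul_le_pointwise_smul_iff.2 ih
          · exact Subgroup.pointwise_smul_le_pointwise_smul_iff.2 (B_succ_le i)
        have h7 : (B P g (i + 2)).relIndex (B P g (i + 1)) = 1 := by
          rw [Subgroup.relIndex_eq_one]
          have h8 : MulAut.conj g⁻¹ • B P g (i + 1) = B P g (i + 1) :=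
            Subgroup.eq_of_le_of_card_ge h6 (card_conj _ _).ge
          show B P g (i + 1) ≤ B P g (i + 1) ⊓ MulAut.conj g⁻¹ • B P g (i + 1)
          rw [h8, inf_idem]
        omega
      have h9 := Subgroup.pointwise_smul_le_pointwise_smul_iff (a := MulAut.conj g) |>.2 h5
      rwa [conj_inv_smul, hg] at h9

theorem relIndex_B [Finite G] (h2 : (MulAut.conj g • P).relIndex P = 2)
    (hU : ∀ X : Subgroup G, X ≤ P → P ≤ Subgroup.normalizer (X : Set G) → MulAut.conj g • X = X → X = ⊥)
    (j : ℕ) (hj : B P g j ≠ ⊥) : (B P g (j + 1)).relIndex (B P g j) = 2 := by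
  induction j using Nat.strong_induction_on with
  | _ j ih =>
    by_contra hne
    have h3 : (B P g (j + 1)).relIndex (B P g j) = 1 := by
      have h4 := relIndex_B_le h2 j
      have h5 : (B P g (j + 1)).relIndex (B P g j) ≠ 0 := Subgroup.index_ne_zero_of_finite
      omega
    have h6 : B P g j ≤ MulAut.conj g⁻¹ • B P g j := (Subgroup.relIndex_eq_one.1 h3).trans (B_succ_le' j)
    have h7 : B P g j = MulAut.conj g⁻¹ • B P g j := Subgroup.eq_of_le_of_card_ge h6 (card_conj _ _).le
    have h8 : MulAut.conj g • B P g j = B P g j := by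
      conv_lhs => rw [h7]
      exact conj_inv_smul _
    apply hj
    refine hU _ (B_le j) ?_ h8
    have h9 := B_le_normalizer (P := P) (g := g) (j := j) ?_ h8 j le_rfl
    · rwa [Nat.sub_self] at h9
    · intro i hi
      refine ih i hi ?_
      intro h10
      apply hj
      rw [eq_bot_iff, ← h10]
      exact antitone_nat_of_succ_le (f := B P g) (fun n => B_succ_le n) hi.le

/-- **Existence of the chain.** -/
theorem exists_chain [Finite G] (P : Subgroup G) (g : G) (h2 : (MulAut.conj g • P).relIndex P = 2)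
    (hU : ∀ X : Subgroup G, X ≤ P → P ≤ Subgroup.normalizer (X : Set G) → MulAut.conj g • X = X → X = ⊥) :
    ∃ (N : ℕ) (T : ℕ → Subgroup G), Chain g N T ∧ T N = P ∧ 0 < N := by
  have hex : ∃ j, B P g j = ⊥ := by
    by_contra hcon
    push Not at hcon
    have h3 : ∀ j, Nat.card (B P g j) * 2 ^ j = Nat.card P := by
      intro j
      induction j with
      | zero => rw [pow_zero, mul_one]; rfl
      | succ j ih =>
        have e := card_mul_relIndex (B_succ_le (P := P) (g := g) j)
        rw [relIndex_B h2 hU j (hcon j)] at e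
        rw [← ih, ← e, pow_succ]
        ring
    have h4 := h3 (Nat.card P)
    have h5 : Nat.card P < 2 ^ Nat.card P := Nat.lt_two_pow_self
    have h6 : 0 < Nat.card (B P g (Nat.card P)) := Nat.card_pos
    nlinarith
  classical
  set N := Nat.find hex with hN
  have hN1 : B P g N = ⊥ := Nat.find_spec hex
  have hN2 : ∀ j < N, B P g j ≠ ⊥ := fun j hj => Nat.find_min hex hj
  have hNpos : 0 < N := by
    rcases Nat.eq_zero_or_pos N with h0 | h0
    · exfalso
      rw [h0] at hN1
      have hP : P = ⊥ := hN1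
      rw [hP, Subgroup.relIndex_bot_right] at h2
      omega
    · exact h0
  have hcard : ∀ m ≤ N, Nat.card (B P g (N - m)) = 2 ^ m := by
    intro m
    induction m with
    | zero =>
      intro _
      rw [Nat.sub_zero, hN1, pow_zero]
      exact Subgroup.card_bot
    | succ m ih =>
      intro hm
      have ih := ih (by omega)
      have e1 : N - m = N - (m + 1) + 1 := by omega
      have e := card_mul_relIndex (B_succ_le (P := P) (g := g) (N - (m + 1)))
      rw [relIndex_B h2 hU _ (hN2 _ (by omega)), ← e1, ih] at e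
      rw [← e, pow_succ]
  refine ⟨N, fun m => B P g (N - m), ⟨hcard, ?_, ?_, ?_⟩, ?_, hNpos⟩
  · intro m hm
    show B P g (N - m) ≤ B P g (N - (m + 1))
    have e1 : N - m = N - (m + 1) + 1 := by omega
    rw [e1]
    exact B_succ_le _
  · intro m hm
    show MulAut.conj g • B P g (N - m) ≤ B P g (N - (m + 1))
    have e1 : N - m = N - (m + 1) + 1 := by omega
    rw [e1]
    exact conj_B_succ_le _
  · intro m hm
    show B P g (N - (m + 1)) ⊓ MulAut.conj g • B P g (N - (m + 1)) ≤ MulAut.conj g • B P g (N - m)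
    have e1 : N - m = N - (m + 1) + 1 := by omega
    rw [e1]
    show _ ≤ MulAut.conj g • (B P g (N - (m + 1)) ⊓ MulAut.conj g⁻¹ • B P g (N - (m + 1)))
    rw [Subgroup.smul_inf, conj_inv_smul, inf_comm]
  · show B P g (N - N) = P
    rw [Nat.sub_self]
    rfl

end Cfsg.Agent.H581.Sims
end

-- part: H581/SimsB
section
/-!
# Sims' shift argument: the intervals of the chain
-/

set_option autoImplicit false

open Pointwise

namespace Cfsg.Agent.H581.Sims

variable {G : Type*} [Group G]

/-- The interval subgroup `G_{i, i + m - 1}`. -/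
def S (g : G) (T : ℕ → Subgroup G) (i : ℤ) (m : ℕ) : Subgroup G := MulAut.conj (g ^ i) • T m

/-- the shifted involution -/
def el (g a : G) (i : ℤ) : G := g ^ i * a * (g ^ i)⁻¹

/-- Chain with its first involution. -/
structure Data (g a : G) (N : ℕ) (T : ℕ → Subgroup G) : Prop extends Chain g N T where
  one : ∀ x, x ∈ T 1 ↔ x = 1 ∨ x = a
  ne : a ≠ 1
  sq : a * a = 1
  pos : 0 < N

variable {g a : G} {N : ℕ} {T : ℕ → Subgroup G}

theorem conj_S (i j : ℤ) (m : ℕ) : MulAut.conj (g ^ j) • S g T i m = S g T (j + i) m := by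
  unfold S
  rw [smul_smul, ← map_mul, zpow_add]

theorem conj_S_one (i : ℤ) (m : ℕ) : MulAut.conj g • S g T i m = S g T (i + 1) m := by
  have h := conj_S (g := g) (T := T) i 1 m
  rwa [zpow_one, add_comm] at h

theorem S_zero (m : ℕ) : S g T 0 m = T m := by
  unfold S
  rw [zpow_zero, map_one, one_smul]

theorem mem_conj_S {i j : ℤ} {m : ℕ} {x : G} (h : x ∈ S g T i m) : g ^ j * x * (g ^ j)⁻¹ ∈ S g T (j + i) m := by
  rw [← conj_S]
  exact ⟨x, h, rfl⟩

theorem el_conj (i j : ℤ) : g ^ j * el g a i * (g ^ j)⁻¹ = el g a (j + i) := by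
  unfold el
  rw [zpow_add]
  group

theorem el_zero : el g a 0 = a := by
  unfold el
  simp

/-- passage from a chain to data -/
theorem Chain.exists_data [Finite G] (hC : Chain g N T) (hN : 0 < N) : ∃ a, Data g a N T := by
  have h1 : Nat.card (T 1) = 2 := by rw [hC.card 1 hN, pow_one]
  obtain ⟨x, y, hxy, huniv⟩ := Nat.card_eq_two_iff.1 h1
  obtain ⟨a, ha⟩ : ∃ a : T 1, a ≠ 1 ∧ ∀ z : T 1, z = 1 ∨ z = a := by
    have hz : ∀ z : T 1, z = x ∨ z = y := by
      intro z
      have : z ∈ ({x, y} : Set (T 1)) := by rw [huniv]; trivial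
      simpa using this
    rcases hz 1 with h | h
    · exact ⟨y, by rw [h]; exact hxy.symm, by rw [h]; exact hz⟩
    · refine ⟨x, by rw [h]; exact hxy, fun z => ?_⟩
      rw [h]
      exact (hz z).symm
  refine ⟨a, hC, fun z => ⟨fun hz => ?_, fun hz => ?_⟩, ?_, ?_, hN⟩
  · rcases ha.2 ⟨z, hz⟩ with h | h
    · left
      exact congrArg Subtype.val h
    · right
      rw [← h]
  · rcases hz with rfl | rfl
    · exact one_mem _
    · exact a.2
  · intro h
    exact ha.1 (Subtype.ext h)
  · rcases ha.2 (a * a) with h | h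
    · exact congrArg Subtype.val h
    · exact absurd (mul_eq_left.1 h) ha.1

namespace Data

theorem bot (hD : Data g a N T) (i : ℤ) : S g T i 0 = ⊥ := by
  have h0 : Nat.card (T 0) = 1 := by rw [hD.card 0 (Nat.zero_le _), pow_zero]
  unfold S
  rw [(Subgroup.card_eq_one).1 h0]
  exact Subgroup.smul_bot _

theorem S_card (hD : Data g a N T) (i : ℤ) {m : ℕ} (hm : m ≤ N) : Nat.card (S g T i m) = 2 ^ m := by
  unfold S
  rw [card_conj, hD.card m hm]

theorem S_le (hD : Data g a N T) (i : ℤ) {m : ℕ} (hm : m < N) : S g T i m ≤ S g T i (m + 1) :=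
  Subgroup.pointwise_smul_le_pointwise_smul_iff.2 (hD.le m hm)

theorem S_cle (hD : Data g a N T) (i : ℤ) {m : ℕ} (hm : m < N) : S g T (i + 1) m ≤ S g T i (m + 1) := by
  have h := Subgroup.pointwise_smul_le_pointwise_smul_iff (a := MulAut.conj (g ^ i)) |>.2 (hD.cle m hm)
  rw [smul_smul, ← map_mul, ← zpow_add_one] at h
  exact h

theorem S_inf (hD : Data g a N T) (i : ℤ) {m : ℕ} (hm : m < N) :
    S g T i (m + 1) ⊓ S g T (i + 1) (m + 1) ≤ S g T (i + 1) m := by
  have h := Subgroup.pointwise_smul_le_pointwise_smul_iff (a := MulAut.conj (g ^ i)) |>.2 (hD.inf m hm)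
  rw [Subgroup.smul_inf, smul_smul, ← map_mul, smul_smul, ← map_mul, ← zpow_add_one] at h
  exact h

theorem mono_right (hD : Data g a N T) (i : ℤ) (m b : ℕ) (h : m + b ≤ N) : S g T i m ≤ S g T i (m + b) := by
  induction b with
  | zero => exact le_rfl
  | succ b ih => exact (ih (by omega)).trans (hD.S_le i (by omega))

theorem mono_left (hD : Data g a N T) (i : ℤ) (m b : ℕ) (h : m + b ≤ N) : S g T (i + b) m ≤ S g T i (m + b) := by
  induction b generalizing m with
  | zero => simp
  | succ b ih =>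
    have h1 := hD.S_cle (i + b) (m := m) (by omega)
    have h2 := ih (m + 1) (by omega)
    have e1 : i + ((b + 1 : ℕ) : ℤ) = i + b + 1 := by push_cast; ring
    have e2 : m + (b + 1) = m + 1 + b := by omega
    rw [e1, e2]
    exact h1.trans h2

theorem mono (hD : Data g a N T) {i k : ℤ} {m M : ℕ} (h1 : i ≤ k) (h2 : k + m ≤ i + M) (h3 : M ≤ N) :
    S g T k m ≤ S g T i M := by
  obtain ⟨b, hb⟩ := Int.eq_ofNat_of_zero_le (sub_nonneg.2 h1)
  have hk : k = i + b := by omega
  subst hk
  obtain ⟨c, hc⟩ : ∃ c, M = m + b + c := ⟨M - (m + b), by omega⟩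
  subst hc
  exact (hD.mono_left i m b (by omega)).trans (hD.mono_right i (m + b) c h3)

/-- Intersection of two intervals. -/
theorem inter (hD : Data g a N T) (L : ℕ) : ∀ (k i : ℤ) (m' m : ℕ), k ≤ i → i ≤ k + m' → k + m' ≤ i + m →
    i + m - k ≤ L → L ≤ N → ∀ x, x ∈ S g T k m' → x ∈ S g T i m → ∀ n : ℕ, k + m' = i + n → x ∈ S g T i n := by
  induction L with
  | zero =>
    intro k i m' m h1 h2 h3 h4 _ x hx1 _ n hn
    have e1 : k = i := by omega
    have e2 : m' = n := by omega
    subst e1 e2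
    exact hx1
  | succ L ih =>
    intro k i m' m h1 h2 h3 h4 h5 x hx1 hx2 n hn
    rcases h1.lt_or_eq with hlt | heq
    · -- k < i
      by_cases hL : i + m - k ≤ L
      · exact ih k i m' m h1 h2 h3 hL (by omega) x hx1 hx2 n hn
      · have e0 : i + m - k = L + 1 := by push_cast at h4 ⊢; omega
        by_cases hend : k + m' = i + m
        · have : n = m := by omega
          subst this
          exact hx2
        · -- k + m' < i + m
          have hLpos : 0 < L := by
            by_contra h0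
            have : L = 0 := by omega
            subst this
            omega
          obtain ⟨l, rfl⟩ : ∃ l, L = l + 1 := ⟨L - 1, by omega⟩
          have hx3 : x ∈ S g T k (l + 1) := hD.mono le_rfl (by push_cast at *; omega) (by omega) hx1
          have hx4 : x ∈ S g T (k + 1) (l + 1) := hD.mono (by omega) (by push_cast at *; omega) (by omega) hx2
          have hx5 : x ∈ S g T (k + 1) l := hD.S_inf k (by omega) ⟨hx3, hx4⟩
          rcases Nat.eq_zero_or_pos m' with h0 | h0
          · exfalso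
            omega
          · obtain ⟨m'', rfl⟩ : ∃ m'', m' = m'' + 1 := ⟨m' - 1, by omega⟩
            have hx6 : x ∈ S g T (k + 1) m'' :=
              ih k (k + 1) (m'' + 1) l (by omega) (by push_cast; omega) (by push_cast at *; omega) (by push_cast at *; omega)
                (by omega) x hx1 hx5 m'' (by push_cast; ring)
            exact ih (k + 1) i m'' m (by omega) (by push_cast at *; omega) (by push_cast at *; omega)
              (by push_cast at *; omega) (by omega) x hx6 hx2 n (by push_cast at *; omega)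
    · subst heq
      have : n = m' := by omega
      subst this
      exact hx1

theorem mem_one (hD : Data g a N T) (i : ℤ) (x : G) : x ∈ S g T i 1 ↔ x = 1 ∨ x = el g a i := by
  unfold S el
  rw [Subgroup.mem_pointwise_smul_iff_inv_smul_mem, ← map_inv, MulAut.smul_def, MulAut.conj_apply, inv_inv, hD.one]
  constructor
  · rintro (h | h)
    · left
      have : x = g ^ i * ((g ^ i)⁻¹ * x * g ^ i) * (g ^ i)⁻¹ := by group
      rw [this, h]
      group
    · right
      rw [← h]
      group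
  · rintro (h | h)
    · left
      rw [h]
      group
    · right
      rw [h]
      group

theorem el_ne (hD : Data g a N T) (i : ℤ) : el g a i ≠ 1 := by
  intro h
  apply hD.ne
  unfold el at h
  have : a = (g ^ i)⁻¹ * (g ^ i * a * (g ^ i)⁻¹) * g ^ i := by group
  rw [this, h]
  group

theorem el_sq (hD : Data g a N T) (i : ℤ) : el g a i * el g a i = 1 := by
  unfold el
  have : g ^ i * a * (g ^ i)⁻¹ * (g ^ i * a * (g ^ i)⁻¹) = g ^ i * (a * a) * (g ^ i)⁻¹ := by group
  rw [this, hD.sq]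
  group

theorem el_inv (hD : Data g a N T) (i : ℤ) : (el g a i)⁻¹ = el g a i :=
  inv_eq_of_mul_eq_one_left (hD.el_sq i)

theorem el_mem (hD : Data g a N T) {i k : ℤ} {m : ℕ} (h1 : k ≤ i) (h2 : i < k + m) (h3 : m ≤ N) :
    el g a i ∈ S g T k m :=
  hD.mono (m := 1) h1 (by push_cast; omega) h3 ((hD.mem_one i _).2 (Or.inr rfl))

theorem el_notMem_right (hD : Data g a N T) {i k : ℤ} {m : ℕ} (h1 : k + m ≤ i) (h2 : i < k + N) :
    el g a i ∉ S g T k m := by
  intro h
  obtain ⟨l, hl⟩ := Int.eq_ofNat_of_zero_le (sub_nonneg.2 (show k ≤ i by omega))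
  have h3 : el g a i ∈ S g T k l := hD.mono le_rfl (by omega) (by omega) h
  have h4 := hD.inter (l + 1) k i l 1 (by omega) (by omega) (by omega) (by push_cast; omega) (by omega) _ h3
    (hD.el_mem le_rfl (by push_cast; omega) (by omega)) 0 (by push_cast; omega)
  rw [hD.bot] at h4
  exact hD.el_ne i (Subgroup.mem_bot.1 h4)

theorem el_notMem_left (hD : Data g a N T) {i k : ℤ} {m : ℕ} (h1 : i < k) (h2 : k + m ≤ i + N) :
    el g a i ∉ S g T k m := by
  intro h
  have h3 : el g a i ∈ S g T (i + 1) (k + m - (i + 1)).toNat := hD.mono (by omega) (by omega) (by omega) h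
  have h4 := hD.inter ((k + m - (i + 1)).toNat + 1) i (i + 1) 1 (k + m - (i + 1)).toNat (by omega) (by push_cast; omega) (by push_cast; omega)
    (by push_cast; omega) (by omega) _ (hD.el_mem le_rfl (by push_cast; omega) (by have := hD.pos; omega)) h3 0 (by push_cast; omega)
  rw [hD.bot] at h4
  exact hD.el_ne i (Subgroup.mem_bot.1 h4)

theorem relIndex_right (hD : Data g a N T) (i : ℤ) {m : ℕ} (hm : m < N) :
    (S g T i m).relIndex (S g T i (m + 1)) = 2 :=
  relIndex_two_of_card (hD.S_le i hm) (hD.S_card i hm.le) (hD.S_card i hm)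

theorem relIndex_left (hD : Data g a N T) (i : ℤ) {m : ℕ} (hm : m < N) :
    (S g T (i + 1) m).relIndex (S g T i (m + 1)) = 2 :=
  relIndex_two_of_card (hD.S_cle i hm) (hD.S_card _ hm.le) (hD.S_card i hm)

theorem le_normalizer_right (hD : Data g a N T) (i : ℤ) {m : ℕ} (hm : m < N) :
    S g T i (m + 1) ≤ Subgroup.normalizer (S g T i m : Set G) :=
  le_normalizer_two (hD.S_le i hm) (hD.relIndex_right i hm)

theorem le_normalizer_left (hD : Data g a N T) (i : ℤ) {m : ℕ} (hm : m < N) :
    S g T i (m + 1) ≤ Subgroup.normalizer (S g T (i + 1) m : Set G) :=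
  le_normalizer_two (hD.S_cle i hm) (hD.relIndex_left i hm)

/-- An interval is generated by its involutions. -/
theorem le_of_gen (hD : Data g a N T) (X : Subgroup G) (k : ℤ) (m : ℕ) (hm : m ≤ N)
    (h : ∀ i, k ≤ i → i < k + m → el g a i ∈ X) : S g T k m ≤ X := by
  induction m with
  | zero => rw [hD.bot]; exact bot_le
  | succ m ih =>
    refine le_of_two (hD.relIndex_right k (by omega)) (ih (by omega) fun i h1 h2 => h i h1 (by push_cast; omega)) ?_
    intro hle
    exact hD.el_notMem_right (i := k + m) (k := k) (m := m) le_rfl (by omega)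
      (hle ⟨h _ (by omega) (by push_cast; omega), hD.el_mem (by omega) (by push_cast; omega) hm⟩)

/-- the commutator of two of the involutions -/
theorem comm_mem (hD : Data g a N T) (i : ℤ) (d : ℕ) (hd : d + 2 ≤ N) :
    el g a i * el g a (i + (d + 1)) * (el g a i)⁻¹ * (el g a (i + (d + 1)))⁻¹ ∈ S g T (i + 1) d := by
  have h1 : el g a i ∈ S g T i (d + 1) := hD.el_mem le_rfl (by push_cast; omega) (by omega)
  have h2 : el g a i ∈ S g T i (d + 2) := hD.el_mem le_rfl (by push_cast; omega) (by omega)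
  have h3 : el g a (i + (d + 1)) ∈ S g T (i + 1) (d + 1) := hD.el_mem (by omega) (by push_cast; omega) (by omega)
  have h4 : el g a (i + (d + 1)) ∈ S g T i (d + 2) := hD.el_mem (by omega) (by push_cast; omega) (by omega)
  refine hD.S_inf i (m := d) (by omega) ⟨?_, ?_⟩
  · have h5 := (Subgroup.mem_normalizer_iff.1 (hD.le_normalizer_right i (m := d + 1) (by omega) h4) (el g a i)⁻¹).1
      (inv_mem h1)
    have h6 := mul_mem h1 h5
    rwa [← mul_assoc, ← mul_assoc] at h6
  · have h5 := (Subgroup.mem_normalizer_iff.1 (hD.le_normalizer_left i (m := d + 1) (by omega) h2) (el g a (i + (d + 1)))).1 h3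
    exact (S g T (i + 1) (d + 1)).mul_mem h5 ((S g T (i + 1) (d + 1)).inv_mem h3)

/-- The reversed data. -/
theorem reverse (hD : Data g a N T) : Data g⁻¹ a N (fun m => S g T (1 - m) m) where
  card m hm := hD.S_card _ hm
  le m hm := by
    have h := hD.S_cle (-m) hm
    have e1 : (-m : ℤ) + 1 = 1 - m := by ring
    have e2 : (-m : ℤ) = 1 - ((m + 1 : ℕ) : ℤ) := by push_cast; ring
    rw [e1, e2] at h
    exact h
  cle m hm := by
    have h1 : MulAut.conj g⁻¹ • S g T (1 - m) m = S g T (-m) m := by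
      have h := conj_S (g := g) (T := T) (1 - m) (-1) m
      rw [zpow_neg_one] at h
      rw [h]
      congr 1
      ring
    show MulAut.conj g⁻¹ • S g T (1 - m) m ≤ S g T (1 - ((m + 1 : ℕ) : ℤ)) (m + 1)
    rw [h1]
    have e2 : (-m : ℤ) = 1 - ((m + 1 : ℕ) : ℤ) := by push_cast; ring
    rw [← e2]
    exact hD.S_le _ hm
  inf m hm := by
    have h1 : ∀ (n : ℕ) (i : ℤ), MulAut.conj g⁻¹ • S g T i n = S g T (i - 1) n := by
      intro n i
      have h := conj_S (g := g) (T := T) i (-1) n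
      rw [zpow_neg_one] at h
      rw [h]
      congr 1
      ring
    show S g T (1 - ((m + 1 : ℕ) : ℤ)) (m + 1) ⊓ MulAut.conj g⁻¹ • S g T (1 - ((m + 1 : ℕ) : ℤ)) (m + 1) ≤
      MulAut.conj g⁻¹ • S g T (1 - m) m
    rw [h1, h1]
    have h := hD.S_inf (1 - ((m + 1 : ℕ) : ℤ) - 1) hm
    have e1 : (1 - ((m + 1 : ℕ) : ℤ) - 1 + 1 : ℤ) = 1 - ((m + 1 : ℕ) : ℤ) := by ring
    have e2 : (1 - m - 1 : ℤ) = 1 - ((m + 1 : ℕ) : ℤ) := by push_cast; ring
    rw [e1, inf_comm] at h
    rw [e2]
    exact h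
  one x := by
    show x ∈ S g T (1 - ((1 : ℕ) : ℤ)) 1 ↔ _
    rw [hD.mem_one]
    have e : (1 - ((1 : ℕ) : ℤ)) = 0 := by norm_num
    rw [e, el_zero]
  ne := hD.ne
  sq := hD.sq
  pos := hD.pos

theorem S_reverse (i : ℤ) (m : ℕ) : S g⁻¹ (fun m => S g T (1 - m) m) i m = S g T (1 - m - i) m := by
  show MulAut.conj (g⁻¹ ^ i) • S g T (1 - m) m = _
  rw [inv_zpow', conj_S]
  congr 1
  ring

end Data

theorem el_reverse (i : ℤ) : el g⁻¹ a i = el g a (-i) := by
  unfold el
  rw [inv_zpow']

end Cfsg.Agent.H581.Sims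
end

-- part: H581/SimsC
section
/-!
# Sims' shift argument: the bound

`Data.main`: with `P = T N`, if no non-identity subgroup of `P` is normalised by `P`, `gPg⁻¹` and `g²Pg⁻²`, then
`N ≤ 4`, and the commutators of the involutions are as expected.
-/

set_option autoImplicit false

open Pointwise

namespace Cfsg.Agent.H581.Sims

variable {G : Type*} [Group G] {g a : G} {N : ℕ} {T : ℕ → Subgroup G}

theorem commute_shift (i j k : ℤ) : Commute (el g a (k + i)) (el g a (k + j)) ↔ Commute (el g a i) (el g a j) := by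
  rw [← el_conj, ← el_conj]
  constructor
  · intro h
    have h1 : g ^ k * (el g a i * el g a j) * (g ^ k)⁻¹ = g ^ k * (el g a j * el g a i) * (g ^ k)⁻¹ := by
      have h2 := h.eq
      calc g ^ k * (el g a i * el g a j) * (g ^ k)⁻¹
          = g ^ k * el g a i * (g ^ k)⁻¹ * (g ^ k * el g a j * (g ^ k)⁻¹) := by group
        _ = _ := h2
        _ = _ := by group
    exact mul_left_cancel (mul_right_cancel h1)
  · intro h
    show _ = _
    calc g ^ k * el g a i * (g ^ k)⁻¹ * (g ^ k * el g a j * (g ^ k)⁻¹)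
        = g ^ k * (el g a i * el g a j) * (g ^ k)⁻¹ := by group
      _ = g ^ k * (el g a j * el g a i) * (g ^ k)⁻¹ := by rw [h.eq]
      _ = _ := by group

theorem comm_of {m : ℕ} (hm : ∀ d : ℕ, 1 ≤ d → d ≤ m → Commute (el g a 0) (el g a d)) {i j : ℤ}
    (h1 : i - j ≤ m) (h2 : j - i ≤ m) : Commute (el g a i) (el g a j) := by
  rcases lt_trichotomy i j with h | h | h
  · obtain ⟨d, hd⟩ := Int.eq_ofNat_of_zero_le (show 0 ≤ j - i by omega)
    have h3 := (commute_shift 0 (d : ℤ) i).2 (hm d (by omega) (by omega))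
    have e1 : i + 0 = i := by ring
    have e2 : i + (d : ℤ) = j := by omega
    rwa [e1, e2] at h3
  · subst h
    exact Commute.refl _
  · obtain ⟨d, hd⟩ := Int.eq_ofNat_of_zero_le (show 0 ≤ i - j by omega)
    have h3 := (commute_shift 0 (d : ℤ) j).2 (hm d (by omega) (by omega))
    have e1 : j + 0 = j := by ring
    have e2 : j + (d : ℤ) = i := by omega
    rw [e1, e2] at h3
    exact h3.symm

/-- the commutator `[a_i, a_j]` -/
def cm (g a : G) (i j : ℤ) : G := el g a i * el g a j * (el g a i)⁻¹ * (el g a j)⁻¹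

theorem cm_conj (i j k : ℤ) : g ^ k * cm g a i j * (g ^ k)⁻¹ = cm g a (k + i) (k + j) := by
  unfold cm
  rw [← el_conj i k, ← el_conj j k]
  group

theorem cm_inv (i j : ℤ) : (cm g a i j)⁻¹ = cm g a j i := by
  unfold cm
  group

theorem cm_eq_one {i j : ℤ} : cm g a i j = 1 ↔ Commute (el g a i) (el g a j) := by
  unfold cm
  rw [mul_inv_eq_one, mul_inv_eq_iff_eq_mul]
  rfl

namespace Data

theorem centralize (hD : Data g a N T) (t : G) (k : ℤ) (n : ℕ) (hn : n ≤ N)
    (h : ∀ i, k ≤ i → i < k + n → Commute t (el g a i)) {x : G} (hx : x ∈ S g T k n) : Commute t x := by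
  have h1 : S g T k n ≤ Subgroup.centralizer {t} := by
    refine hD.le_of_gen _ k n hn fun i h2 h3 => ?_
    rw [Subgroup.mem_centralizer_singleton_iff]
    exact (h i h2 h3).eq.symm
  have h2 := Subgroup.mem_centralizer_singleton_iff.1 (h1 hx)
  exact h2.symm

theorem le_normalizer_zpowers (hD : Data g a N T) (i : ℤ) {k : ℤ} {n : ℕ} (hn : n ≤ N)
    (h : ∀ j, k ≤ j → j < k + n → Commute (el g a i) (el g a j)) :
    S g T k n ≤ Subgroup.normalizer (S g T i 1 : Set G) := by
  intro x hx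
  rw [Subgroup.mem_normalizer_iff]
  have hc := hD.centralize (el g a i) k n hn h hx
  have hc' : x * el g a i * x⁻¹ = el g a i := by rw [← hc.eq, mul_inv_cancel_right]
  intro y
  rw [hD.mem_one, hD.mem_one]
  constructor
  · rintro (rfl | rfl)
    · left; group
    · right; exact hc'
  · rintro (h1 | h1)
    · left
      have : y = x⁻¹ * (x * y * x⁻¹) * x := by group
      rw [this, h1]; group
    · right
      have : y = x⁻¹ * (x * y * x⁻¹) * x := by group
      rw [this, h1, mul_assoc, hc.eq, inv_mul_cancel_left]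

/-- The first commutation bound. -/
theorem stepR (hD : Data g a N T) {m : ℕ} (hm : ∀ d : ℕ, 1 ≤ d → d ≤ m → Commute (el g a 0) (el g a d))
    (hnc : ¬ Commute (el g a 0) (el g a (m + 1))) (r n : ℕ) (hr : 1 ≤ r) (hrn : r + n = m) (hN : r + m + 2 ≤ N)
    (hc : cm g a 0 (m + 1) ∈ S g T r (n + 1)) : cm g a 0 (m + 1) ∈ S g T (r + 1) n := by
  set t := el g a (r + m + 1) with ht
  -- `t` commutes with `c`
  have h1 : Commute t (el g a (m + 1)) := comm_of hm (by omega) (by omega)
  have hx : cm g a 0 (r + m + 1) ∈ S g T 1 (r + m) := by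
    have := hD.comm_mem 0 (r + m) hN
    rw [zero_add, zero_add] at this
    push_cast at this
    exact this
  have h2 : (el g a 0)⁻¹ * (cm g a 0 (r + m + 1))⁻¹ * el g a 0 ∈ S g T 1 (r + m) := by
    have h3 : el g a 0 ∈ S g T 0 (r + m + 1) := hD.el_mem le_rfl (by push_cast; omega) (by omega)
    have h4 := hD.le_normalizer_left 0 (m := r + m) (by omega) h3
    rw [zero_add] at h4
    exact (Subgroup.mem_normalizer_iff''.1 h4 _).1 (inv_mem hx)
  have h5 : Commute (el g a (m + 1)) ((el g a 0)⁻¹ * (cm g a 0 (r + m + 1))⁻¹ * el g a 0) := by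
    refine hD.centralize _ 1 (r + m) (by omega) (fun i hi1 hi2 => ?_) h2
    exact comm_of hm (by push_cast at *; omega) (by push_cast at *; omega)
  have h6 : Commute t (cm g a 0 (m + 1)) := by
    have e1 : t * el g a 0 * t⁻¹ = el g a 0 * ((el g a 0)⁻¹ * (cm g a 0 (r + m + 1))⁻¹ * el g a 0) := by
      unfold cm
      rw [← ht]
      group
    have e2 : t * el g a (m + 1) * t⁻¹ = el g a (m + 1) := by rw [h1.eq, mul_inv_cancel_right]
    set d := (el g a 0)⁻¹ * (cm g a 0 (r + m + 1))⁻¹ * el g a 0 with hd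
    have e3 : t * cm g a 0 (m + 1) * t⁻¹ = cm g a 0 (m + 1) := by
      have : t * cm g a 0 (m + 1) * t⁻¹ = (t * el g a 0 * t⁻¹) * (t * el g a (m + 1) * t⁻¹) * (t * el g a 0 * t⁻¹)⁻¹ *
          (t * el g a (m + 1) * t⁻¹)⁻¹ := by
        unfold cm
        group
      rw [this, e1, e2]
      have h7 : el g a (m + 1) * d⁻¹ = d⁻¹ * el g a (m + 1) := (h5.inv_right).eq
      calc el g a 0 * d * el g a (m + 1) * (el g a 0 * d)⁻¹ * (el g a (m + 1))⁻¹
          = el g a 0 * d * (el g a (m + 1) * d⁻¹) * (el g a 0)⁻¹ * (el g a (m + 1))⁻¹ := by group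
        _ = el g a 0 * d * (d⁻¹ * el g a (m + 1)) * (el g a 0)⁻¹ * (el g a (m + 1))⁻¹ := by rw [h7]
        _ = cm g a 0 (m + 1) := by unfold cm; group
    show t * cm g a 0 (m + 1) = cm g a 0 (m + 1) * t
    rwa [mul_inv_eq_iff_eq_mul] at e3
  by_contra hcon
  have h8 : el g a r ∉ S g T (r + 1) n := hD.el_notMem_left (by omega) (by omega)
  have h9 : el g a r ∈ S g T r (n + 1) := hD.el_mem le_rfl (by push_cast; omega) (by omega)
  have h10 := div_mem_two (hD.relIndex_left r (m := n) (by omega)) h9 h8 hc hcon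
  have h11 : Commute t (cm g a 0 (m + 1) * (el g a r)⁻¹) := by
    refine hD.centralize _ (r + 1) n (by omega) (fun i hi1 hi2 => ?_) h10
    exact comm_of hm (by omega) (by omega)
  have h12 : Commute t (el g a r) := by
    have e : el g a r = (cm g a 0 (m + 1) * (el g a r)⁻¹)⁻¹ * cm g a 0 (m + 1) := by group
    rw [e]
    exact (h11.inv_right).mul_right h6
  apply hnc
  have h13 := (commute_shift (g := g) (a := a) 0 (m + 1) r)
  rw [← h13]
  have e1 : (r : ℤ) + 0 = r := by ring
  have e2 : (r : ℤ) + (m + 1) = r + m + 1 := by ring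
  rw [e1, e2]
  exact h12.symm

theorem iterR (hD : Data g a N T) {m : ℕ} (hm : ∀ d : ℕ, 1 ≤ d → d ≤ m → Commute (el g a 0) (el g a d))
    (hnc : ¬ Commute (el g a 0) (el g a (m + 1))) (hmN : m + 2 ≤ N) (r : ℕ) : ∀ n, 1 ≤ r → r + n = m + 1 → r + m + 1 ≤ N →
    cm g a 0 (m + 1) ∈ S g T r n := by
  induction r with
  | zero => intro n h; omega
  | succ r ih =>
    intro n _ h2 h3
    rcases Nat.eq_zero_or_pos r with rfl | hr
    · have h4 := hD.comm_mem 0 m hmN
      rw [zero_add, zero_add] at h4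
      have : n = m := by omega
      subst this
      have e : ((0 + 1 : ℕ) : ℤ) = 1 := by norm_num
      rw [e]
      exact h4
    · have h4 := ih (n + 1) hr (by omega) (by omega)
      have := hD.stepR hm hnc r n hr (by omega) (by omega) h4
      simpa using this

/-- The two-sided bound. -/
theorem two_sided (hD : Data g a N T) {m : ℕ} (hm : ∀ d : ℕ, 1 ≤ d → d ≤ m → Commute (el g a 0) (el g a d))
    (hnc : ¬ Commute (el g a 0) (el g a (m + 1))) (hmN : m + 2 ≤ N) :
    2 * N ≤ 3 * m + 3 ∧ ∀ r k : ℕ, r + m + 1 = N → k + 2 * N = 3 * m + 4 → cm g a 0 (m + 1) ∈ S g T r k := by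
  have hne : cm g a 0 (m + 1) ≠ 1 := fun h => hnc (cm_eq_one.1 h)
  have hN1 : N ≤ 2 * m + 1 := by
    by_contra hcon
    have h1 := hD.iterR hm hnc hmN (m + 1) 0 (by omega) (by omega) (by omega)
    rw [hD.bot] at h1
    exact hne (Subgroup.mem_bot.1 h1)
  obtain ⟨r, hr⟩ : ∃ r, r + m + 1 = N := ⟨N - m - 1, by omega⟩
  obtain ⟨n, hn⟩ : ∃ n, r + n = m + 1 := ⟨m + 1 - r, by omega⟩
  have h1 := hD.iterR hm hnc hmN r n (by omega) hn (by omega)
  have h2 : cm g a 0 (m + 1) ∈ S g T 1 n := by
    have hm' : ∀ d : ℕ, 1 ≤ d → d ≤ m → Commute (el g⁻¹ a 0) (el g⁻¹ a d) := by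
      intro d _ hd2
      rw [el_reverse, el_reverse]
      exact comm_of hm (by omega) (by omega)
    have hnc' : ¬ Commute (el g⁻¹ a 0) (el g⁻¹ a (m + 1)) := by
      intro h
      apply hnc
      rw [el_reverse, el_reverse] at h
      have := (commute_shift (g := g) (a := a) (-0) (-(m + 1)) (m + 1)).2 h
      have e1 : ((m : ℤ) + 1) + (-0) = m + 1 := by ring
      have e2 : ((m : ℤ) + 1) + (-(m + 1)) = 0 := by ring
      rw [e1, e2] at this
      exact this.symm
    have h3 := hD.reverse.iterR hm' hnc' hmN r n (by omega) hn (by omega)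
    rw [S_reverse] at h3
    have h4 := mem_conj_S (j := m + 1) h3
    have e0 : cm g⁻¹ a 0 (m + 1) = cm g a (-0) (-(m + 1)) := by
      unfold cm
      rw [el_reverse, el_reverse]
    rw [e0, cm_conj] at h4
    have e1 : ((m : ℤ) + 1) + (-0) = m + 1 := by ring
    have e2 : ((m : ℤ) + 1) + (-(m + 1)) = 0 := by ring
    have e3 : (m : ℤ) + 1 + (1 - n - r) = 1 := by omega
    rw [e1, e2, e3, ← cm_inv] at h4
    exact (Subgroup.inv_mem_iff _).1 h4
  have h3 : r ≤ n := by
    by_contra hcon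
    obtain ⟨l, hl⟩ : ∃ l, r = l + 1 := ⟨r - 1, by omega⟩
    have h4 : cm g a 0 (m + 1) ∈ S g T 1 l := hD.mono le_rfl (by omega) (by omega) h2
    have h5 := hD.inter m 1 r l n (by omega) (by push_cast; omega) (by push_cast; omega) (by omega) (by omega) _ h4 h1 0
      (by push_cast; omega)
    rw [hD.bot] at h5
    exact hne (Subgroup.mem_bot.1 h5)
  refine ⟨by omega, ?_⟩
  intro r' k hr' hk
  have e : r' = r := by omega
  subst e
  exact hD.inter m 1 r' n n (by omega) (by omega) (by omega) (by omega) (by omega) _ h2 h1 k (by omega)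

theorem sq_one (hD : Data g a N T) {m : ℕ} (hm : ∀ d : ℕ, 1 ≤ d → d ≤ m → Commute (el g a 0) (el g a d)) (k : ℤ) (n : ℕ)
    (hn : n ≤ m + 1) (hnN : n ≤ N) : ∀ x ∈ S g T k n, x * x = 1 := by
  induction n with
  | zero =>
    intro x hx
    rw [hD.bot, Subgroup.mem_bot] at hx
    rw [hx, mul_one]
  | succ n ih =>
    intro x hx
    by_cases h1 : x ∈ S g T k n
    · exact ih (by omega) (by omega) x h1
    · have h2 : el g a (k + n) ∉ S g T k n := hD.el_notMem_right le_rfl (by omega)
      have h3 : el g a (k + n) ∈ S g T k (n + 1) := hD.el_mem (by omega) (by push_cast; omega) hnN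
      have h4 := div_mem_two (hD.relIndex_right k (m := n) (by omega)) h3 h2 hx h1
      have h5 := ih (by omega) (by omega) _ h4
      have h6 : Commute (el g a (k + n)) (x * (el g a (k + n))⁻¹) :=
        hD.centralize _ k n (by omega) (fun i hi1 hi2 => comm_of hm (by omega) (by omega)) h4
      have h7 := hD.el_sq (k + n)
      set y := x * (el g a (k + n))⁻¹ with hy
      have h8 : x = y * el g a (k + n) := by rw [hy]; group
      rw [h8]
      calc y * el g a (k + n) * (y * el g a (k + n)) = y * (el g a (k + n) * y) * el g a (k + n) := by group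
        _ = y * (y * el g a (k + n)) * el g a (k + n) := by rw [h6.eq]
        _ = (y * y) * (el g a (k + n) * el g a (k + n)) := by group
        _ = 1 := by rw [h5, h7, one_mul]

theorem le_normalizer_mid (hD : Data g a N T) (i : ℤ) (m : ℕ) (hm : m + 2 ≤ N) :
    S g T i (m + 2) ≤ Subgroup.normalizer (S g T (i + 1) m : Set G) := by
  have h1 : S g T i (m + 1) ⊓ S g T (i + 1) (m + 1) = S g T (i + 1) m :=
    le_antisymm (hD.S_inf i (by omega)) (le_inf (hD.S_cle i (by omega)) (hD.S_le (i + 1) (by omega)))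
  rw [← h1]
  intro x hx
  have h2 := hD.le_normalizer_right i (m := m + 1) (by omega) hx
  have h3 := hD.le_normalizer_left i (m := m + 1) (by omega) hx
  rw [Subgroup.mem_normalizer_iff] at h2 h3 ⊢
  intro y
  rw [Subgroup.mem_inf, Subgroup.mem_inf, h2 y, h3 y]

/-- `N = 6` is impossible. -/
theorem not_six (hD : Data g a 6 T) (hm : ∀ d : ℕ, 1 ≤ d → d ≤ 3 → Commute (el g a 0) (el g a d))
    (hnc : ¬ Commute (el g a 0) (el g a 4))
    (hU : ∀ X : Subgroup G, X ≤ S g T 0 6 → S g T 0 6 ≤ Subgroup.normalizer (X : Set G) →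
      S g T 1 6 ≤ Subgroup.normalizer (X : Set G) → S g T 2 6 ≤ Subgroup.normalizer (X : Set G) → X = ⊥) : False := by
  have hc4 : cm g a 0 4 ∈ S g T 2 1 := by
    have h1 := (hD.two_sided (m := 3) hm (by simpa using hnc) (by norm_num)).2 2 1 (by norm_num) (by norm_num)
    simpa using h1
  have hc : cm g a 0 4 = el g a 2 := by
    rcases (hD.mem_one 2 _).1 hc4 with h | h
    · exact absurd (cm_eq_one.1 h) hnc
    · exact h
  have hc5 : cm g a 1 5 = el g a 3 := by
    have h1 := cm_conj (g := g) (a := a) 0 4 1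
    rw [hc, el_conj] at h1
    norm_num at h1
    exact h1.symm
  have hmem : ∀ (i k : ℤ) (n : ℕ), k ≤ i → i < k + n → n ≤ 6 → el g a i ∈ S g T k n := fun i k n h1 h2 h3 => hD.el_mem h1 h2 h3
  have r14 : (S g T 1 4).relIndex (S g T 1 5) = 2 := hD.relIndex_right 1 (m := 4) (by norm_num)
  have r24 : (S g T 2 4).relIndex (S g T 1 5) = 2 := hD.relIndex_left 1 (m := 4) (by norm_num)
  have n51 : el g a 5 ∉ S g T 1 4 := hD.el_notMem_right (by norm_num) (by norm_num)
  have n12 : el g a 1 ∉ S g T 2 4 := hD.el_notMem_left (by norm_num) (by norm_num)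
  -- the two elementary abelian subgroups of order 16
  have two : ∀ E : Subgroup G, E ≤ S g T 1 5 → Nat.card E = 16 → (∀ e ∈ E, e * e = 1) → E = S g T 1 4 ∨ E = S g T 2 4 := by
    intro E hE hcard hsq
    have c14 := hD.S_card 1 (m := 4) (by norm_num)
    have c24 := hD.S_card 2 (m := 4) (by norm_num)
    have fin1 : Finite (S g T 1 4) := Nat.finite_of_card_ne_zero (by rw [c14]; norm_num)
    have fin2 : Finite (S g T 2 4) := Nat.finite_of_card_ne_zero (by rw [c24]; norm_num)
    by_contra hcon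
    push Not at hcon
    have h1 : ¬ E ≤ S g T 1 4 := by
      intro h
      exact hcon.1 (Subgroup.eq_of_le_of_card_ge h (by rw [hcard, c14]; norm_num))
    have h2 : ¬ E ≤ S g T 2 4 := by
      intro h
      exact hcon.2 (Subgroup.eq_of_le_of_card_ge h (by rw [hcard, c24]; norm_num))
    obtain ⟨w, hwE, hw1, hw2⟩ : ∃ w ∈ E, w ∉ S g T 1 4 ∧ w ∉ S g T 2 4 := by
      rw [SetLike.not_le_iff_exists] at h1 h2
      obtain ⟨u, hu, hu1⟩ := h1
      obtain ⟨v, hv, hv1⟩ := h2
      by_cases hu2 : u ∈ S g T 2 4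
      · by_cases hv2 : v ∈ S g T 1 4
        · refine ⟨u * v, mul_mem hu hv, fun h => hu1 ?_, fun h => hv1 ?_⟩
          · have := (S g T 1 4).mul_mem h (inv_mem hv2)
            rwa [mul_inv_cancel_right] at this
          · have := (S g T 2 4).mul_mem (inv_mem hu2) h
            rwa [inv_mul_cancel_left] at this
        · exact ⟨v, hv, hv2, hv1⟩
      · exact ⟨u, hu, hu1, hu2⟩
    have h3 : w * (el g a 5)⁻¹ ∈ S g T 1 4 :=
      div_mem_two r14 (hmem 5 1 5 (by norm_num) (by norm_num) (by norm_num)) n51 (hE hwE) hw1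
    have h4 : w * (el g a 5)⁻¹ ∉ S g T 2 4 := by
      intro h
      apply hw2
      have := (S g T 2 4).mul_mem h (hmem 5 2 4 (by norm_num) (by norm_num) (by norm_num))
      rwa [inv_mul_cancel_right] at this
    have h5 : w * (el g a 5)⁻¹ * (el g a 1)⁻¹ ∈ S g T 2 4 := by
      refine div_mem_two r24 (hmem 1 1 5 (by norm_num) (by norm_num) (by norm_num)) n12 ?_ h4
      exact (S g T 1 5).mul_mem (hE hwE) (inv_mem (hmem 5 1 5 (by norm_num) (by norm_num) (by norm_num)))
    have h6 : w * (el g a 5)⁻¹ * (el g a 1)⁻¹ ∈ S g T 1 4 :=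
      (S g T 1 4).mul_mem h3 (inv_mem (hmem 1 1 4 (by norm_num) (by norm_num) (by norm_num)))
    have h7 : w * (el g a 5)⁻¹ * (el g a 1)⁻¹ ∈ S g T 2 3 :=
      hD.inter 5 1 2 4 4 (by norm_num) (by norm_num) (by norm_num) (by norm_num) (by norm_num) _ h6 h5 3 (by norm_num)
    set z := w * (el g a 5)⁻¹ * (el g a 1)⁻¹ with hz
    have h8 : w = z * el g a 1 * el g a 5 := by rw [hz]; group
    have h9 : Commute (el g a 1) z := hD.centralize _ 2 3 (by norm_num)
      (fun i hi1 hi2 => comm_of hm (by push_cast at *; omega) (by push_cast at *; omega)) h7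
    have h10 : Commute (el g a 5) z := hD.centralize _ 2 3 (by norm_num)
      (fun i hi1 hi2 => comm_of hm (by push_cast at *; omega) (by push_cast at *; omega)) h7
    have h11 : z * z = 1 := hD.sq_one hm 2 3 (by norm_num) (by norm_num) z h7
    have h12 := hsq w hwE
    rw [h8] at h12
    have h13 : z * el g a 1 * el g a 5 * (z * el g a 1 * el g a 5) = el g a 3 := by
      calc z * el g a 1 * el g a 5 * (z * el g a 1 * el g a 5)
          = z * el g a 1 * (el g a 5 * z) * el g a 1 * el g a 5 := by group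
        _ = z * el g a 1 * (z * el g a 5) * el g a 1 * el g a 5 := by rw [h10.eq]
        _ = z * (el g a 1 * z) * el g a 5 * el g a 1 * el g a 5 := by group
        _ = z * (z * el g a 1) * el g a 5 * el g a 1 * el g a 5 := by rw [h9.eq]
        _ = (z * z) * (el g a 1 * el g a 5 * el g a 1 * el g a 5) := by group
        _ = el g a 1 * el g a 5 * (el g a 1)⁻¹ * (el g a 5)⁻¹ := by rw [h11, one_mul, hD.el_inv, hD.el_inv]
        _ = el g a 3 := hc5
    rw [h13] at h12
    exact hD.el_ne 3 h12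
  have hnorm : ∀ (X : Subgroup G) (x : G), x ∈ Subgroup.normalizer (X : Set G) → MulAut.conj x • X = X := by
    intro X x hx
    ext y
    rw [Subgroup.mem_pointwise_smul_iff_inv_smul_mem, ← map_inv, MulAut.smul_def, MulAut.conj_apply, inv_inv]
    exact (Subgroup.mem_normalizer_iff''.1 hx y).symm
  have hnorm' : ∀ (X : Subgroup G) (x : G), MulAut.conj x • X = X → x ∈ Subgroup.normalizer (X : Set G) := by
    intro X x hx
    rw [Subgroup.mem_normalizer_iff'']
    intro y
    conv_lhs => rw [← hx]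
    rw [Subgroup.mem_pointwise_smul_iff_inv_smul_mem, ← map_inv, MulAut.smul_def, MulAut.conj_apply, inv_inv]
  have key : ∀ (x : G) (A : Subgroup G), x ∈ Subgroup.normalizer (S g T 1 5 : Set G) → A ≤ S g T 1 5 → Nat.card A = 16 →
      (∀ e ∈ A, e * e = 1) → MulAut.conj x • A = S g T 1 4 ∨ MulAut.conj x • A = S g T 2 4 := by
    intro x A hx hA hcard hsq
    refine two _ ?_ (by rw [card_conj, hcard]) ?_
    · have := Subgroup.pointwise_smul_le_pointwise_smul_iff (a := MulAut.conj x) |>.2 hA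
      rwa [hnorm _ x hx] at this
    · rintro e ⟨f, hf, rfl⟩
      show x * f * x⁻¹ * (x * f * x⁻¹) = 1
      have : x * f * x⁻¹ * (x * f * x⁻¹) = x * (f * f) * x⁻¹ := by group
      rw [this, hsq f hf]
      group
  have hne : S g T 2 4 ≠ S g T 1 4 := by
    intro h
    apply n12
    rw [h]
    exact hmem 1 1 4 (by norm_num) (by norm_num) (by norm_num)
  have sq14 := hD.sq_one hm 1 4 (by norm_num) (by norm_num)
  have sq24 := hD.sq_one hm 2 4 (by norm_num) (by norm_num)
  have c14 : Nat.card (S g T 1 4) = 16 := by rw [hD.S_card 1 (m := 4) (by norm_num)]; norm_num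
  have c24 : Nat.card (S g T 2 4) = 16 := by rw [hD.S_card 2 (m := 4) (by norm_num)]; norm_num
  have le14 : S g T 1 4 ≤ S g T 1 5 := hD.S_le 1 (by norm_num)
  have le24 : S g T 2 4 ≤ S g T 1 5 := hD.S_cle 1 (by norm_num)
  -- `S 0 6` normalises both
  have a1 : S g T 0 6 ≤ Subgroup.normalizer (S g T 1 4 : Set G) := hD.le_normalizer_mid 0 4 (by norm_num)
  have a2 : S g T 1 6 ≤ Subgroup.normalizer (S g T 2 4 : Set G) := hD.le_normalizer_mid 1 4 (by norm_num)
  have b1 : S g T 0 6 ≤ Subgroup.normalizer (S g T 1 5 : Set G) := hD.le_normalizer_left 0 (m := 5) (by norm_num)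
  have b2 : S g T 1 6 ≤ Subgroup.normalizer (S g T 1 5 : Set G) := hD.le_normalizer_right 1 (m := 5) (by norm_num)
  have a3 : S g T 0 6 ≤ Subgroup.normalizer (S g T 2 4 : Set G) := by
    intro x hx
    apply hnorm'
    rcases key x _ (b1 hx) le24 c24 sq24 with h | h
    · exfalso
      rw [← hnorm _ x (a1 hx)] at h
      exact hne (smul_left_cancel _ h)
    · exact h
  have a4 : S g T 1 6 ≤ Subgroup.normalizer (S g T 1 4 : Set G) := by
    intro x hx
    apply hnorm'
    rcases key x _ (b2 hx) le14 c14 sq14 with h | h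
    · exact h
    · exfalso
      rw [← hnorm _ x (a2 hx)] at h
      exact hne (smul_left_cancel _ h).symm
  have a5 : S g T 2 6 ≤ Subgroup.normalizer (S g T 2 4 : Set G) := by
    have h := Subgroup.pointwise_smul_le_pointwise_smul_iff (a := MulAut.conj g) |>.2 a4
    rw [smul_normalizer, conj_S_one, conj_S_one] at h
    exact h
  have h := hU (S g T 2 4) (hD.mono (by norm_num) (by norm_num) (by norm_num)) a3 a2 a5
  rw [h, Subgroup.card_bot] at c24
  norm_num at c24

/-- **The bound**: `N ≤ 4`. -/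
theorem main (hD : Data g a N T)
    (hU : ∀ X : Subgroup G, X ≤ S g T 0 N → S g T 0 N ≤ Subgroup.normalizer (X : Set G) →
      S g T 1 N ≤ Subgroup.normalizer (X : Set G) → S g T 2 N ≤ Subgroup.normalizer (X : Set G) → X = ⊥) :
    N = 1 ∨ (N = 2 ∧ Commute (el g a 0) (el g a 1)) ∨
    (N = 3 ∧ Commute (el g a 0) (el g a 1) ∧ cm g a 0 2 = el g a 1) ∨
    (N = 4 ∧ Commute (el g a 0) (el g a 1) ∧ Commute (el g a 0) (el g a 2) ∧ cm g a 0 3 ≠ 1 ∧
      cm g a 0 3 ∈ S g T 1 2) := by
  have hpos := hD.pos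
  -- the U-step
  have ustep : ∀ m : ℕ, m < N → (∀ d : ℕ, 1 ≤ d → d ≤ m → Commute (el g a 0) (el g a d)) → 2 * m ≤ N := by
    intro m hmN hm
    by_contra hcon
    have h1 := hU (S g T m 1) (hD.mono (by omega) (by push_cast; omega) le_rfl)
      (hD.le_normalizer_zpowers m le_rfl fun j hj1 hj2 => comm_of hm (by omega) (by omega))
      (hD.le_normalizer_zpowers m le_rfl fun j hj1 hj2 => comm_of hm (by omega) (by omega))
      (hD.le_normalizer_zpowers m le_rfl fun j hj1 hj2 => comm_of hm (by omega) (by omega))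
    have h2 := (hD.mem_one m (el g a m)).2 (Or.inr rfl)
    rw [h1, Subgroup.mem_bot] at h2
    exact hD.el_ne m h2
  -- maximal m
  by_cases hab : ∀ d : ℕ, 1 ≤ d → d ≤ N - 1 → Commute (el g a 0) (el g a d)
  · have h1 := ustep (N - 1) (by omega) hab
    have h2 : N = 1 ∨ N = 2 := by omega
    rcases h2 with h2 | h2
    · exact Or.inl h2
    · subst h2
      exact Or.inr (Or.inl ⟨rfl, by simpa using hab 1 le_rfl le_rfl⟩)
  · push Not at hab
    classical
    have hex : ∃ d : ℕ, 1 ≤ d ∧ d ≤ N - 1 ∧ ¬ Commute (el g a 0) (el g a d) := hab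
    set d := Nat.find hex with hd
    obtain ⟨hd1, hd2, hd3⟩ := Nat.find_spec hex
    rw [← hd] at hd1 hd2 hd3
    obtain ⟨m, hdm⟩ : ∃ m, d = m + 1 := ⟨d - 1, by omega⟩
    have hm : ∀ e : ℕ, 1 ≤ e → e ≤ m → Commute (el g a 0) (el g a e) := by
      intro e he1 he2
      by_contra hcon
      have := Nat.find_min hex (m := e) (by omega)
      exact this ⟨he1, by omega, hcon⟩
    have hnc : ¬ Commute (el g a 0) (el g a (m + 1)) := by
      rw [hdm] at hd3
      push_cast at hd3
      exact hd3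
    have h1 := ustep m (by omega) hm
    obtain ⟨h2, h3⟩ := hD.two_sided hm hnc (by omega)
    have h4 : (m = 1 ∧ N = 3) ∨ (m = 2 ∧ N = 4) ∨ (m = 3 ∧ N = 6) := by omega
    rcases h4 with ⟨rfl, rfl⟩ | ⟨rfl, rfl⟩ | ⟨rfl, rfl⟩
    · right; right; left
      refine ⟨rfl, by simpa using hm 1 le_rfl le_rfl, ?_⟩
      have h5 := h3 1 1 (by norm_num) (by norm_num)
      have e : ((1 : ℕ) : ℤ) + 1 = 2 := by norm_num
      rw [e] at h5 hnc
      push_cast at h5
      rcases (hD.mem_one 1 _).1 h5 with h | h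
      · exact absurd (cm_eq_one.1 h) hnc
      · exact h
    · right; right; right
      have e : ((2 : ℕ) : ℤ) + 1 = 3 := by norm_num
      have h5 := h3 1 2 (by norm_num) (by norm_num)
      rw [e] at h5 hnc
      push_cast at h5
      exact ⟨rfl, by simpa using hm 1 le_rfl (by norm_num), by simpa using hm 2 (by norm_num) le_rfl,
        fun h => hnc (cm_eq_one.1 h), h5⟩
    · exfalso
      refine hD.not_six hm ?_ hU
      have e : ((3 : ℕ) : ℤ) + 1 = 4 := by norm_num
      rwa [e] at hnc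

end Data

end Cfsg.Agent.H581.Sims
end

-- part: H581/SimsD
section
/-!
# Sims' theorem: the quotient by the odd core, abstract form
-/

set_option autoImplicit false

open Subgroup

namespace Cfsg.Agent.H581.Sims

variable {X : Type*} [Group X]

/-- Commuting involutions coincide in a group of order not divisible by four. -/
theorem eq_of_commute_invol [Finite X] (h4 : ¬ 4 ∣ Nat.card X) {x s : X} (hx : x * x = 1) (hs : s * s = 1)
    (hx1 : x ≠ 1) (hs1 : s ≠ 1) (hxs : x * s = s * x) : x = s := by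
  by_contra hne
  apply h4
  have hox : orderOf x = 2 := orderOf_eq_prime (by rw [pow_two, hx]) hx1
  set C := Subgroup.centralizer ({x} : Set X) with hC
  have hxC : x ∈ C := by rw [hC, mem_centralizer_singleton_iff]
  have hsC : s ∈ C := by rw [hC, mem_centralizer_singleton_iff]; exact hxs.symm
  set Z := (zpowers x).subgroupOf C with hZ
  have hZle : zpowers x ≤ C := by rwa [zpowers_le]
  have hsZ : s ∉ zpowers x := by
    rw [mem_zpowers_iff]
    rintro ⟨k, hk⟩
    rcases Int.even_or_odd' k with ⟨l, rfl | rfl⟩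
    · rw [zpow_mul, zpow_two, hx, one_zpow] at hk
      exact hs1 hk.symm
    · rw [zpow_add, zpow_mul, zpow_two, hx, one_zpow, one_mul, zpow_one] at hk
      exact hne hk
  have hZn : Z.Normal := by
    refine ⟨fun n hn c => ?_⟩
    have h1 : (n : X) ∈ zpowers x := hn
    have h2 : (c : X) * n * (c : X)⁻¹ = n := by
      obtain ⟨k, hk⟩ := mem_zpowers_iff.1 h1
      have h3 : Commute (c : X) x := mem_centralizer_singleton_iff.1 c.2
      rw [← hk, (h3.zpow_right k).eq, mul_inv_cancel_right]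
    show (c : X) * n * (c : X)⁻¹ ∈ zpowers x
    rw [h2]
    exact h1
  have hcardZ : Nat.card Z = 2 := by
    rw [hZ, Nat.card_congr (subgroupOfEquivOfLe hZle).toEquiv, Nat.card_zpowers, hox]
  have h2 : 2 ∣ Nat.card (C ⧸ Z) := by
    have h3 : orderOf (QuotientGroup.mk ⟨s, hsC⟩ : C ⧸ Z) = 2 := by
      refine orderOf_eq_prime ?_ ?_
      · rw [pow_two, ← QuotientGroup.mk_mul]
        have : (⟨s, hsC⟩ : C) * ⟨s, hsC⟩ = 1 := Subtype.ext hs
        rw [this, QuotientGroup.mk_one]
      · rw [Ne, QuotientGroup.eq_one_iff]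
        exact hsZ
    rw [← h3]
    exact orderOf_dvd_natCard _
  have h5 : Nat.card C = Nat.card (C ⧸ Z) * Nat.card Z := Subgroup.card_eq_card_quotient_mul_card_subgroup Z
  have h6 : Nat.card C ∣ Nat.card X := Subgroup.card_subgroup_dvd_card C
  refine dvd_trans ?_ h6
  rw [h5, hcardZ]
  exact Nat.mul_dvd_mul h2 dvd_rfl

/-- The product of two involutions has odd order if the order of the group is not divisible by four. -/
theorem odd_orderOf [Finite X] (h4 : ¬ 4 ∣ Nat.card X) {x z : X} (hx : x * x = 1) (hz : z * z = 1)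
    (hx1 : x ≠ 1) (hz1 : z ≠ 1) : Odd (orderOf (x * z)) := by
  by_contra hcon
  rw [Nat.not_odd_iff_even] at hcon
  obtain ⟨l, hl⟩ := hcon
  have hpos : 0 < orderOf (x * z) := orderOf_pos _
  have hs : (x * z) ^ l * (x * z) ^ l = 1 := by rw [← pow_add, ← hl, pow_orderOf_eq_one]
  have hs1 : (x * z) ^ l ≠ 1 := by
    intro h
    have := orderOf_dvd_of_pow_eq_one h
    have := Nat.le_of_dvd (by omega) this
    omega
  have hxi : x⁻¹ = x := inv_eq_of_mul_eq_one_left hx
  have hzi : z⁻¹ = z := inv_eq_of_mul_eq_one_left hz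
  have hsi : ((x * z) ^ l)⁻¹ = (x * z) ^ l := inv_eq_of_mul_eq_one_left hs
  have h1 : x * (x * z) ^ l * x⁻¹ = (x * z) ^ l := by
    rw [← conj_pow]
    have : x * (x * z) * x⁻¹ = (x * z)⁻¹ := by rw [mul_inv_rev, hxi, hzi, ← mul_assoc, hx, one_mul]
    rw [this, inv_pow, hsi]
  have h2 : z * (x * z) ^ l * z⁻¹ = (x * z) ^ l := by
    rw [← conj_pow]
    have : z * (x * z) * z⁻¹ = (x * z)⁻¹ := by
      calc z * (x * z) * z⁻¹ = z * x := by group
        _ = z⁻¹ * x⁻¹ := by rw [hxi, hzi]
        _ = (x * z)⁻¹ := by group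
    rw [this, inv_pow, hsi]
  have e1 := eq_of_commute_invol h4 hx hs hx1 hs1 (mul_inv_eq_iff_eq_mul.1 h1)
  have e2 := eq_of_commute_invol h4 hz hs hz1 hs1 (mul_inv_eq_iff_eq_mul.1 h2)
  apply hs1
  rw [← e2] at e1
  rw [e1, hz, one_pow]

/-- Quotient by the odd core. -/
theorem quot_equiv [Finite X] {M : Type*} [Group M] (f : X →* M) (hf : Function.Surjective f)
    (hker : (Nat.card f.ker).Coprime 2) (hM : Cfsg.pPrimeCore 2 M = ⊥) : Nonempty (X ⧸ Cfsg.oddCore X ≃* M) := by
  have h1 : f.ker = Cfsg.pPrimeCore 2 X := by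
    refine le_antisymm (Lib.Cores.le_pPrimeCore inferInstance hker) ?_
    have hn := Lib.Cores.pPrimeCore_normal (G := X) 2
    have h2 : (Cfsg.pPrimeCore 2 X).map f ≤ Cfsg.pPrimeCore 2 M := by
      refine Lib.Cores.le_pPrimeCore (hn.map f hf) ?_
      exact Nat.Coprime.coprime_dvd_left (Subgroup.card_map_dvd _ f) (Lib.Cores.pPrimeCore_coprime 2)
    rw [hM, le_bot_iff, Subgroup.map_eq_bot_iff] at h2
    exact h2
  have e1 : X ⧸ f.ker ≃* M := QuotientGroup.quotientKerEquivOfSurjective f hf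
  have hn := Lib.Cores.pPrimeCore_normal (G := X) 2
  exact ⟨(QuotientGroup.quotientMulEquivOfEq h1.symm).trans e1⟩

theorem pPrimeCore_permFour : Cfsg.pPrimeCore 2 (Equiv.Perm (Fin 4)) = ⊥ := by
  have hn := Lib.Cores.pPrimeCore_normal (G := Equiv.Perm (Fin 4)) 2
  have hc := Lib.Cores.pPrimeCore_coprime (G := Equiv.Perm (Fin 4)) 2
  rw [eq_bot_iff]
  intro x hx
  by_contra hx1
  obtain ⟨y, z, h⟩ := Lib.VonDyck.normal_s4 x hx1
  have h1 : (Lib.VonDyck.s4 * Lib.VonDyck.t4) ^ 2 ∈ Cfsg.pPrimeCore 2 (Equiv.Perm (Fin 4)) := by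
    rw [← h]
    exact mul_mem (hn.conj_mem x hx y) (hn.conj_mem x hx z)
  have h2 : orderOf ((Lib.VonDyck.s4 * Lib.VonDyck.t4) ^ 2) = 2 := by
    refine orderOf_eq_prime ?_ Lib.VonDyck.st4_ne
    rw [← pow_mul]
    exact Lib.VonDyck.st4_pow
  have h3 : orderOf ((Lib.VonDyck.s4 * Lib.VonDyck.t4) ^ 2) ∣ Nat.card (Cfsg.pPrimeCore 2 (Equiv.Perm (Fin 4))) := by
    have := orderOf_dvd_natCard (⟨_, h1⟩ : Cfsg.pPrimeCore 2 (Equiv.Perm (Fin 4)))
    rwa [Subgroup.orderOf_mk] at this
  rw [h2] at h3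
  have h4 := Nat.dvd_gcd h3 (dvd_refl 2)
  rw [hc] at h4
  exact absurd (Nat.dvd_one.1 h4) (by norm_num)

theorem pPrimeCore_C2 : Cfsg.pPrimeCore 2 (Multiplicative (ZMod 2)) = ⊥ := by
  have hc := Lib.Cores.pPrimeCore_coprime (G := Multiplicative (ZMod 2)) 2
  have h1 := Subgroup.card_subgroup_dvd_card (Cfsg.pPrimeCore 2 (Multiplicative (ZMod 2)))
  have h2 : Nat.card (Multiplicative (ZMod 2)) = 2 := by
    rw [Nat.card_congr Multiplicative.toAdd, Nat.card_zmod]
  rw [h2] at h1
  have h3 := Nat.dvd_gcd dvd_rfl h1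
  rw [hc] at h3
  exact Subgroup.card_eq_one.1 (Nat.dvd_one.1 h3)

theorem pPrimeCore_prod {M1 M2 : Type*} [Group M1] [Group M2] [Finite M1] [Finite M2] (h1 : Cfsg.pPrimeCore 2 M1 = ⊥)
    (h2 : Cfsg.pPrimeCore 2 M2 = ⊥) : Cfsg.pPrimeCore 2 (M1 × M2) = ⊥ := by
  have hn := Lib.Cores.pPrimeCore_normal (G := M1 × M2) 2
  have hc := Lib.Cores.pPrimeCore_coprime (G := M1 × M2) 2
  have a1 : (Cfsg.pPrimeCore 2 (M1 × M2)).map (MonoidHom.fst M1 M2) ≤ Cfsg.pPrimeCore 2 M1 := by
    refine Lib.Cores.le_pPrimeCore (hn.map _ Prod.fst_surjective) ?_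
    exact Nat.Coprime.coprime_dvd_left (Subgroup.card_map_dvd _ _) hc
  have a2 : (Cfsg.pPrimeCore 2 (M1 × M2)).map (MonoidHom.snd M1 M2) ≤ Cfsg.pPrimeCore 2 M2 := by
    refine Lib.Cores.le_pPrimeCore (hn.map _ Prod.snd_surjective) ?_
    exact Nat.Coprime.coprime_dvd_left (Subgroup.card_map_dvd _ _) hc
  rw [h1] at a1
  rw [h2] at a2
  rw [eq_bot_iff]
  intro y hy
  have b1 : y.1 = 1 := Subgroup.mem_bot.1 (a1 ⟨y, hy, rfl⟩)
  have b2 : y.2 = 1 := Subgroup.mem_bot.1 (a2 ⟨y, hy, rfl⟩)
  rw [Subgroup.mem_bot]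
  exact Prod.ext b1 b2

/-- Internal direct products. -/
theorem prod_equiv {A B : Subgroup X} (hcomm : ∀ a ∈ A, ∀ b ∈ B, a * b = b * a) (hd : A ⊓ B = ⊥) (hs : A ⊔ B = ⊤)
    {M1 M2 : Type*} [Group M1] [Group M2] (e1 : A ≃* M1) (e2 : B ≃* M2) : Nonempty (X ≃* M1 × M2) := by
  have hc : ∀ (m : A) (n : B), Commute (A.subtype m) (B.subtype n) := fun m n => hcomm m m.2 n n.2
  let f : A × B →* X := MonoidHom.noncommCoprod A.subtype B.subtype hc
  have hf1 : Function.Injective f := by
    rw [MonoidHom.noncommCoprod_injective]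
    refine ⟨A.subtype_injective, B.subtype_injective, ?_⟩
    rw [range_subtype, range_subtype, disjoint_iff, hd]
  have hf2 : Function.Surjective f := by
    rw [← MonoidHom.range_eq_top, MonoidHom.noncommCoprod_range, range_subtype, range_subtype, hs]
  exact ⟨(MulEquiv.ofBijective f ⟨hf1, hf2⟩).symm.trans (MulEquiv.prodCongr e1 e2)⟩

theorem zpowers_equiv [Finite X] {w : X} (hw : w * w = 1) (hw1 : w ≠ 1) :
    Nonempty (zpowers w ≃* Multiplicative (ZMod 2)) := by
  have h1 : Nat.card (zpowers w) = 2 := by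
    rw [Nat.card_zpowers]
    exact orderOf_eq_prime (by rw [pow_two, hw]) hw1
  have h2 : Nat.card (Multiplicative (ZMod 2)) = 2 := by
    rw [Nat.card_congr Multiplicative.toAdd, Nat.card_zmod]
  have : Fact (Nat.Prime 2) := ⟨Nat.prime_two⟩
  exact ⟨mulEquivOfPrimeCardEq h1 h2⟩

theorem mem_zpowers_invol {x s : X} (hx : x * x = 1) (h : s ∈ zpowers x) : s = 1 ∨ s = x := by
  rw [mem_zpowers_iff] at h
  obtain ⟨k, hk⟩ := h
  rcases Int.even_or_odd' k with ⟨l, rfl | rfl⟩
  · rw [zpow_mul, zpow_two, hx, one_zpow] at hk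
    exact Or.inl hk.symm
  · rw [zpow_add, zpow_mul, zpow_two, hx, one_zpow, one_mul, zpow_one] at hk
    exact Or.inr hk.symm

theorem normal_zpowers_of_gen {S : Set X} (hS : closure S = ⊤) {t : X}
    (h : ∀ y ∈ S, y * t * y⁻¹ = t ∨ y * t * y⁻¹ = t⁻¹) : (zpowers t).Normal := by
  have h1 : ∀ y : X, y * t * y⁻¹ = t ∨ y * t * y⁻¹ = t⁻¹ := by
    intro y
    have hy : y ∈ closure S := by rw [hS]; trivial
    induction hy using closure_induction with
    | mem y hy => exact h y hy
    | one => left; group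
    | mul a b _ _ ha hb =>
      have e : a * b * t * (a * b)⁻¹ = a * (b * t * b⁻¹) * a⁻¹ := by group
      rw [e]
      rcases hb with hb | hb
      · rw [hb]; exact ha
      · rw [hb]
        have e2 : a * t⁻¹ * a⁻¹ = (a * t * a⁻¹)⁻¹ := by group
        rw [e2]
        rcases ha with ha | ha
        · rw [ha]; exact Or.inr rfl
        · rw [ha, inv_inv]; exact Or.inl rfl
    | inv a _ ha =>
      rcases ha with ha | ha
      · left
        have : t = a⁻¹ * (a * t * a⁻¹) * a := by group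
        rw [ha] at this
        rw [inv_inv]
        exact this.symm
      · right
        have : t = a⁻¹ * (a * t * a⁻¹) * a := by group
        rw [ha] at this
        have h3 : t⁻¹ = (a⁻¹ * t⁻¹ * a)⁻¹ := by rw [← this]
        rw [inv_inv, h3]
        group
  refine ⟨fun n hn y => ?_⟩
  obtain ⟨j, rfl⟩ := mem_zpowers_iff.1 hn
  have e : y * t ^ j * y⁻¹ = (y * t * y⁻¹) ^ j := by rw [conj_zpow]
  rw [e]
  rcases h1 y with h2 | h2
  · rw [h2]; exact zpow_mem (mem_zpowers t) j
  · rw [h2]; exact zpow_mem (inv_mem (mem_zpowers t)) j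

theorem notMem_zpowers_of_odd [Finite X] {t v : X} {k : ℕ} (hk : Odd k) (ht : t ^ k = 1) (hv : v * v = 1) (hv1 : v ≠ 1) :
    v ∉ zpowers t := by
  intro h
  have h1 : orderOf v ∣ Nat.card (zpowers t) := by
    have := orderOf_dvd_natCard (⟨v, h⟩ : zpowers t)
    rwa [Subgroup.orderOf_mk] at this
  have h2 : orderOf v = 2 := orderOf_eq_prime (by rw [pow_two, hv]) hv1
  rw [Nat.card_zpowers, h2] at h1
  have h3 := h1.trans (orderOf_dvd_of_pow_eq_one ht)
  exact (Nat.not_even_iff_odd.2 hk) (even_iff_two_dvd.2 h3)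

theorem card_zpowers_coprime [Finite X] {t : X} {k : ℕ} (hk : Odd k) (ht : t ^ k = 1) :
    (Nat.card (zpowers t)).Coprime 2 := by
  rw [Nat.card_zpowers]
  exact Nat.Coprime.coprime_dvd_left (orderOf_dvd_of_pow_eq_one ht) (Nat.coprime_two_right.2 hk)

/-- **`N = 2`**. -/
theorem core_two [Finite X] {x z q : X} (hx : x * x = 1) (hz : z * z = 1) (hq : q * q = 1) (hqc : ∀ y, y * q = q * y)
    (hgen : closure {x, z, q} = ⊤) (hx1 : x ≠ 1) (hq1 : q ≠ 1) (hxq : x ≠ q) {k : ℕ} (hk : Odd k)
    (hrk : (x * z) ^ k ∈ zpowers q) :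
    Nonempty (X ⧸ Cfsg.oddCore X ≃* Multiplicative (ZMod 2) × Multiplicative (ZMod 2)) := by
  have hxi : x⁻¹ = x := inv_eq_of_mul_eq_one_left hx
  have hzi : z⁻¹ = z := inv_eq_of_mul_eq_one_left hz
  have hqi : q⁻¹ = q := inv_eq_of_mul_eq_one_left hq
  set r := x * z with hr
  have hrk2 : r ^ k * r ^ k = 1 := by
    rcases mem_zpowers_invol hq hrk with h | h
    · rw [h, one_mul]
    · rw [h, hq]
  set ρ := r ^ (k + 1) with hρ
  have hρk : ρ ^ k = 1 := by
    obtain ⟨j, hj⟩ := hk
    have : k + 1 = 2 * (j + 1) := by omega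
    rw [hρ, ← pow_mul, mul_comm (k + 1) k, pow_mul, this, pow_mul, pow_two, hrk2, one_pow]
  have hxr : x * r * x⁻¹ = r⁻¹ := by rw [hr, mul_inv_rev, hxi, hzi, ← mul_assoc, hx, one_mul]
  have hzr : z * r * z⁻¹ = r⁻¹ := by
    calc z * (x * z) * z⁻¹ = z * x := by group
      _ = z⁻¹ * x⁻¹ := by rw [hxi, hzi]
      _ = (x * z)⁻¹ := by group
  have hn : (zpowers ρ).Normal := by
    refine normal_zpowers_of_gen hgen ?_
    rintro y (rfl | rfl | rfl)
    · right; rw [hρ, ← conj_pow, hxr, inv_pow]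
    · right; rw [hρ, ← conj_pow, hzr, inv_pow]
    · left; rw [← hqc, mul_inv_cancel_right]
  set π := QuotientGroup.mk' (zpowers ρ) with hπ
  have hπ1 : ∀ y, π y = 1 ↔ y ∈ zpowers ρ := fun y => QuotientGroup.eq_one_iff y
  have hπs : Function.Surjective π := QuotientGroup.mk'_surjective _
  have hπρ : π ρ = 1 := (hπ1 ρ).2 (mem_zpowers ρ)
  have e1 : π x ≠ 1 := fun h => notMem_zpowers_of_odd hk hρk hx hx1 ((hπ1 x).1 h)
  have e2 : π q ≠ 1 := fun h => notMem_zpowers_of_odd hk hρk hq hq1 ((hπ1 q).1 h)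
  have e3 : π x ≠ π q := by
    intro h
    have h1 : π (x * q) = 1 := by rw [map_mul, h, ← map_mul, hq, map_one]
    have h2 : x * q * (x * q) = 1 := by
      rw [mul_assoc, ← mul_assoc q x q, ← hqc x, mul_assoc x q q, hq, mul_one, hx]
    have h3 : x * q ≠ 1 := by
      intro h4
      apply hxq
      rw [mul_eq_one_iff_eq_inv, hqi] at h4
      exact h4
    exact notMem_zpowers_of_odd hk hρk h2 h3 ((hπ1 _).1 h1)
  have a1 : π x * π x = 1 := by rw [← map_mul, hx, map_one]
  have a2 : π q * π q = 1 := by rw [← map_mul, hq, map_one]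
  have hprod : Nonempty ((X ⧸ zpowers ρ) ≃* Multiplicative (ZMod 2) × Multiplicative (ZMod 2)) := by
    obtain ⟨f1⟩ := zpowers_equiv a1 e1
    obtain ⟨f2⟩ := zpowers_equiv a2 e2
    refine prod_equiv (A := zpowers (π x)) (B := zpowers (π q)) ?_ ?_ ?_ f1 f2
    · intro a ha b hb
      have h1 : π x * π q = π q * π x := by rw [← map_mul, hqc, map_mul]
      rcases mem_zpowers_invol a1 ha with rfl | rfl
      · rw [one_mul, mul_one]
      · rcases mem_zpowers_invol a2 hb with rfl | rfl
        · rw [one_mul, mul_one]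
        · exact h1
    · rw [eq_bot_iff]
      rintro y ⟨h1, h2⟩
      rw [mem_bot]
      rcases mem_zpowers_invol a1 h1 with rfl | rfl
      · rfl
      · rcases mem_zpowers_invol a2 h2 with h | h
        · exact h
        · exact absurd h e3
    · have h1 : (closure {x, z, q}).map π = ⊤ := by
        rw [hgen, ← MonoidHom.range_eq_map, MonoidHom.range_eq_top.2 hπs]
      rw [eq_top_iff, ← h1, MonoidHom.map_closure, closure_le]
      have hX : π x ∈ zpowers (π x) ⊔ zpowers (π q) := mem_sup_left (mem_zpowers _)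
      have hQ : π q ∈ zpowers (π x) ⊔ zpowers (π q) := mem_sup_right (mem_zpowers _)
      have hRk : π (r ^ k) ∈ zpowers (π x) ⊔ zpowers (π q) := by
        rcases mem_zpowers_invol hq hrk with h | h
        · rw [h, map_one]; exact one_mem _
        · rw [h]; exact hQ
      rintro _ ⟨y, (rfl | rfl | rfl), rfl⟩
      · exact hX
      · have h2 : y = x⁻¹ * (ρ * (r ^ k)⁻¹) := by
          have : ρ * (r ^ k)⁻¹ = r := by rw [hρ, pow_succ']; group
          rw [this, hr, inv_mul_cancel_left]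
        rw [h2, map_mul, map_mul, hπρ, one_mul, map_inv, map_inv]
        exact mul_mem (inv_mem hX) (inv_mem hRk)
      · exact hQ
  obtain ⟨e⟩ := hprod
  refine quot_equiv (e.toMonoidHom.comp π) (e.surjective.comp hπs) ?_ (pPrimeCore_prod pPrimeCore_C2 pPrimeCore_C2)
  have h1 : (e.toMonoidHom.comp π).ker = zpowers ρ := by
    ext y
    rw [MonoidHom.mem_ker, ← hπ1]
    show e (π y) = 1 ↔ _
    exact map_eq_one_iff e e.injective
  rw [h1]
  exact card_zpowers_coprime hk hρk

/-- **`N = 3, 4`**. -/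
theorem core_four [Finite X] {x z u v w : X} (hx : x * x = 1) (hz : z * z = 1) (hu : u * u = 1) (hv : v * v = 1)
    (hw : w * w = 1) (huv : u * v = v * u) (hxu : x * u = u * x) (hxv : x * v * x⁻¹ = u * v) (hzv : z * v = v * z)
    (hzu : z * u * z⁻¹ = u * v) (hwc : ∀ y, y * w = w * y) (hgen : closure {x, z, u, v, w} = ⊤) (hv1 : v ≠ 1)
    {k : ℕ} (hk : Odd k) (hrk : (x * z) ^ k ∈ closure {u, v, w}) :
    (w = 1 ∧ Nonempty (X ⧸ Cfsg.oddCore X ≃* Equiv.Perm (Fin 4))) ∨
    (w ≠ 1 ∧ Nonempty (X ⧸ Cfsg.oddCore X ≃* Equiv.Perm (Fin 4) × Multiplicative (ZMod 2))) := by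
  have hxi : x⁻¹ = x := inv_eq_of_mul_eq_one_left hx
  have hzi : z⁻¹ = z := inv_eq_of_mul_eq_one_left hz
  have hui : u⁻¹ = u := inv_eq_of_mul_eq_one_left hu
  have hvi : v⁻¹ = v := inv_eq_of_mul_eq_one_left hv
  have hwi : w⁻¹ = w := inv_eq_of_mul_eq_one_left hw
  set r := x * z with hr
  -- the elementary abelian subgroup `Q`
  have hQu : ∀ q ∈ closure {u, v, w}, q * u = u * q := by
    have : closure {u, v, w} ≤ Subgroup.centralizer ({u} : Set X) := by
      rw [closure_le]
      rintro _ (rfl | rfl | rfl)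
      · exact mem_centralizer_singleton_iff.2 rfl
      · exact mem_centralizer_singleton_iff.2 huv.symm
      · exact mem_centralizer_singleton_iff.2 (hwc u).symm
    exact fun q hq => mem_centralizer_singleton_iff.1 (this hq)
  have hQv : ∀ q ∈ closure {u, v, w}, q * v = v * q := by
    have : closure {u, v, w} ≤ Subgroup.centralizer ({v} : Set X) := by
      rw [closure_le]
      rintro _ (rfl | rfl | rfl)
      · exact mem_centralizer_singleton_iff.2 huv
      · exact mem_centralizer_singleton_iff.2 rfl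
      · exact mem_centralizer_singleton_iff.2 (hwc v).symm
    exact fun q hq => mem_centralizer_singleton_iff.1 (this hq)
  have hQc : ∀ q ∈ closure {u, v, w}, ∀ q' ∈ closure {u, v, w}, q' * q = q * q' := by
    intro q hq
    have : closure {u, v, w} ≤ Subgroup.centralizer ({q} : Set X) := by
      rw [closure_le]
      rintro _ (rfl | rfl | rfl)
      · exact mem_centralizer_singleton_iff.2 (hQu q hq).symm
      · exact mem_centralizer_singleton_iff.2 (hQv q hq).symm
      · exact mem_centralizer_singleton_iff.2 (hwc q).symm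
    exact fun q' hq' => mem_centralizer_singleton_iff.1 (this hq')
  have hQ2 : ∀ q ∈ closure {u, v, w}, q * q = 1 := by
    intro q hq
    induction hq using closure_induction with
    | mem y hy =>
      rcases hy with rfl | rfl | rfl
      · exact hu
      · exact hv
      · exact hw
    | one => exact one_mul 1
    | mul a b ha hb iha ihb =>
      calc a * b * (a * b) = a * (b * a) * b := by group
        _ = a * (a * b) * b := by rw [hQc a ha b hb]
        _ = (a * a) * (b * b) := by group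
        _ = 1 := by rw [iha, ihb, one_mul]
    | inv a _ iha =>
      rw [← mul_inv_rev, iha, inv_one]
  have hrk2 : r ^ k * r ^ k = 1 := hQ2 _ hrk
  set ρ := r ^ (k + 1) with hρ
  have hρk : ρ ^ k = 1 := by
    obtain ⟨j, hj⟩ := hk
    have : k + 1 = 2 * (j + 1) := by omega
    rw [hρ, ← pow_mul, mul_comm (k + 1) k, pow_mul, this, pow_mul, pow_two, hrk2, one_pow]
  have hxr : x * r * x⁻¹ = r⁻¹ := by rw [hr, mul_inv_rev, hxi, hzi, ← mul_assoc, hx, one_mul]
  have hzr : z * r * z⁻¹ = r⁻¹ := by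
    calc z * (x * z) * z⁻¹ = z * x := by group
      _ = z⁻¹ * x⁻¹ := by rw [hxi, hzi]
      _ = (x * z)⁻¹ := by group
  have hxρ : x * ρ * x⁻¹ = ρ⁻¹ := by rw [hρ, ← conj_pow, hxr, inv_pow]
  have hzρ : z * ρ * z⁻¹ = ρ⁻¹ := by rw [hρ, ← conj_pow, hzr, inv_pow]
  have hρu : ρ * u * ρ⁻¹ = v := by
    have h1 : ρ = r * r ^ k := by rw [hρ, pow_succ']
    have h2 := hQu _ hrk
    calc ρ * u * ρ⁻¹ = r * (r ^ k * u) * (r ^ k)⁻¹ * r⁻¹ := by rw [h1]; group
      _ = x * (z * u * z⁻¹) * x⁻¹ := by rw [h2, hr]; group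
      _ = (x * u) * x⁻¹ * (x * v * x⁻¹) := by rw [hzu]; group
      _ = v := by rw [hxu, hxv, mul_inv_cancel_right, ← mul_assoc, hu, one_mul]
  have hρv : ρ * v * ρ⁻¹ = u * v := by
    have h1 : ρ = r * r ^ k := by rw [hρ, pow_succ']
    have h2 := hQv _ hrk
    calc ρ * v * ρ⁻¹ = r * (r ^ k * v) * (r ^ k)⁻¹ * r⁻¹ := by rw [h1]; group
      _ = x * (z * v * z⁻¹) * x⁻¹ := by rw [h2, hr]; group
      _ = u * v := by rw [hzv, mul_inv_cancel_right, hxv]
  have hρuv : ρ * (u * v) * ρ⁻¹ = u := by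
    calc ρ * (u * v) * ρ⁻¹ = (ρ * u * ρ⁻¹) * (ρ * v * ρ⁻¹) := by group
      _ = u := by rw [hρu, hρv, huv, ← mul_assoc, hv, one_mul]
  have h3u : ρ ^ 3 * u * (ρ ^ 3)⁻¹ = u := by
    calc ρ ^ 3 * u * (ρ ^ 3)⁻¹ = ρ * (ρ * (ρ * u * ρ⁻¹) * ρ⁻¹) * ρ⁻¹ := by rw [pow_three]; group
      _ = u := by rw [hρu, hρv, hρuv]
  have h3v : ρ ^ 3 * v * (ρ ^ 3)⁻¹ = v := by
    calc ρ ^ 3 * v * (ρ ^ 3)⁻¹ = ρ * (ρ * (ρ * v * ρ⁻¹) * ρ⁻¹) * ρ⁻¹ := by rw [pow_three]; group
      _ = v := by rw [hρv, hρuv, hρu]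
  have hcomm3 : ∀ y, ρ ^ 3 * y * (ρ ^ 3)⁻¹ = y → y * ρ ^ 3 * y⁻¹ = ρ ^ 3 := by
    intro y hy
    rw [mul_inv_eq_iff_eq_mul] at hy
    rw [← hy, mul_inv_cancel_right]
  have hn : (zpowers (ρ ^ 3)).Normal := by
    refine normal_zpowers_of_gen hgen ?_
    rintro y (rfl | rfl | rfl | rfl | rfl)
    · right; rw [← conj_pow, hxρ, inv_pow]
    · right; rw [← conj_pow, hzρ, inv_pow]
    · left; exact hcomm3 _ h3u
    · left; exact hcomm3 _ h3v
    · left; rw [← hwc, mul_inv_cancel_right]
  have hρ3k : (ρ ^ 3) ^ k = 1 := by rw [← pow_mul, mul_comm, pow_mul, hρk, one_pow]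
  set π := QuotientGroup.mk' (zpowers (ρ ^ 3)) with hπ
  have hπ1 : ∀ y, π y = 1 ↔ y ∈ zpowers (ρ ^ 3) := fun y => QuotientGroup.eq_one_iff y
  have hπs : Function.Surjective π := QuotientGroup.mk'_surjective _
  have hπρ : π ρ ^ 3 = 1 := by rw [← map_pow]; exact (hπ1 _).2 (mem_zpowers _)
  have e1 : π v ≠ 1 := fun h => notMem_zpowers_of_odd hk hρ3k hv hv1 ((hπ1 v).1 h)
  have hsq : (u * x * ρ) ^ 2 = v := by
    have h1 : ρ * x * ρ = x := by
      have : ρ * x = x * ρ⁻¹ := by
        have h2 : x * ρ = ρ⁻¹ * x := by rwa [mul_inv_eq_iff_eq_mul] at hxρ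
        calc ρ * x = ρ * x * ρ * ρ⁻¹ := by group
          _ = ρ * (ρ⁻¹ * x) * ρ⁻¹ := by rw [mul_assoc ρ x ρ, h2]
          _ = x * ρ⁻¹ := by group
      rw [this]; group
    have h2 : ρ * u = v * ρ := by rwa [mul_inv_eq_iff_eq_mul] at hρu
    calc (u * x * ρ) ^ 2 = u * x * (ρ * u) * x * ρ := by rw [pow_two]; group
      _ = u * x * v * (ρ * x * ρ) := by rw [h2]; group
      _ = u * (x * v * x⁻¹) * (x * x) := by rw [h1]; group
      _ = v := by rw [hxv, hx, mul_one, ← mul_assoc, hu, one_mul]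
  have ha : π (u * x) ^ 2 = 1 := by
    rw [← map_pow, pow_two]
    have : u * x * (u * x) = 1 := by
      calc u * x * (u * x) = u * (x * u) * x := by group
        _ = u * (u * x) * x := by rw [hxu]
        _ = (u * u) * (x * x) := by group
        _ = 1 := by rw [hu, hx, one_mul]
    rw [this, map_one]
  have hab2 : (π (u * x) * π ρ) ^ 2 = π v := by rw [← map_mul, ← map_pow, hsq]
  have hab4 : (π (u * x) * π ρ) ^ 4 = 1 := by
    have : (4 : ℕ) = 2 * 2 := rfl
    rw [this, pow_mul, hab2, pow_two, ← map_mul, hv, map_one]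
  obtain ⟨eM⟩ := Lib.VonDyck.closure_equiv_permFour ha hπρ hab4 (by rw [hab2]; exact e1)
  set M := closure {π (u * x), π ρ} with hM
  have m1 : π (u * x) ∈ M := subset_closure (by simp)
  have m2 : π ρ ∈ M := subset_closure (by simp)
  have m3 : π v ∈ M := by rw [← hab2]; exact pow_mem (mul_mem m1 m2) 2
  have m4 : π u ∈ M := by
    have h1 : π (ρ * v * ρ⁻¹ * v⁻¹) ∈ M := by
      rw [map_mul, map_mul, map_mul, map_inv, map_inv]
      exact mul_mem (mul_mem (mul_mem m2 m3) (inv_mem m2)) (inv_mem m3)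
    rwa [hρv, mul_inv_cancel_right] at h1
  have m5 : π x ∈ M := by
    have h1 : π x = (π u)⁻¹ * π (u * x) := by rw [map_mul, inv_mul_cancel_left]
    rw [h1]
    exact mul_mem (inv_mem m4) m1
  have hsup : M ⊔ zpowers (π w) = ⊤ := by
    have h1 : (closure {x, z, u, v, w}).map π = ⊤ := by
      rw [hgen, ← MonoidHom.range_eq_map, MonoidHom.range_eq_top.2 hπs]
    have n1 : M ≤ M ⊔ zpowers (π w) := le_sup_left
    have n2 : π w ∈ M ⊔ zpowers (π w) := mem_sup_right (mem_zpowers _)
    have n3 : π (r ^ k) ∈ M ⊔ zpowers (π w) := by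
      have h2 : (closure {u, v, w}).map π ≤ M ⊔ zpowers (π w) := by
        rw [MonoidHom.map_closure, closure_le]
        rintro _ ⟨y, (rfl | rfl | rfl), rfl⟩
        · exact n1 m4
        · exact n1 m3
        · exact n2
      exact h2 ⟨_, hrk, rfl⟩
    rw [eq_top_iff, ← h1, MonoidHom.map_closure, closure_le]
    rintro _ ⟨y, (rfl | rfl | rfl | rfl | rfl), rfl⟩
    · exact n1 m5
    · have h2 : y = x⁻¹ * (ρ * (r ^ k)⁻¹) := by
        have : ρ * (r ^ k)⁻¹ = r := by rw [hρ, pow_succ']; group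
        rw [this, hr, inv_mul_cancel_left]
      rw [h2, map_mul, map_mul, map_inv, map_inv]
      exact mul_mem (inv_mem (n1 m5)) (mul_mem (n1 m2) (inv_mem n3))
    · exact n1 m4
    · exact n1 m3
    · exact n2
  have hkerodd : (Nat.card (zpowers (ρ ^ 3))).Coprime 2 := card_zpowers_coprime hk hρ3k
  by_cases hw1 : w = 1
  · left
    refine ⟨hw1, ?_⟩
    rw [hw1, map_one, zpowers_one_eq_bot, sup_bot_eq] at hsup
    let e : (X ⧸ zpowers (ρ ^ 3)) ≃* Equiv.Perm (Fin 4) := (Subgroup.topEquiv.symm.trans (MulEquiv.subgroupCongr hsup.symm)).trans eM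
    refine quot_equiv (e.toMonoidHom.comp π) (e.surjective.comp hπs) ?_ pPrimeCore_permFour
    have h1 : (e.toMonoidHom.comp π).ker = zpowers (ρ ^ 3) := by
      ext y
      rw [MonoidHom.mem_ker, ← hπ1]
      show e (π y) = 1 ↔ _
      exact map_eq_one_iff e e.injective
    rw [h1]
    exact hkerodd
  · right
    refine ⟨hw1, ?_⟩
    have e2 : π w ≠ 1 := fun h => notMem_zpowers_of_odd hk hρ3k hw hw1 ((hπ1 w).1 h)
    have a2 : π w * π w = 1 := by rw [← map_mul, hw, map_one]
    have hwc' : ∀ y, y * π w = π w * y := by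
      intro y
      obtain ⟨y, rfl⟩ := hπs y
      rw [← map_mul, hwc, map_mul]
    have hwM : π w ∉ M := by
      intro h
      have hc : eM ⟨π w, h⟩ ∈ Subgroup.center (Equiv.Perm (Fin 4)) := by
        rw [mem_center_iff]
        intro σ
        obtain ⟨m, rfl⟩ := eM.surjective σ
        rw [← map_mul, ← map_mul]
        congr 1
        exact Subtype.ext (hwc' m)
      have hbot : Subgroup.center (Equiv.Perm (Fin 4)) = ⊥ := by
        rw [eq_bot_iff]
        intro σ hσ
        rw [mem_center_iff] at hσ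
        rw [mem_bot]
        revert σ
        decide
      rw [hbot, mem_bot] at hc
      have h1 := (map_eq_one_iff eM eM.injective).1 hc
      exact e2 (congrArg Subtype.val h1)
    obtain ⟨f2⟩ := zpowers_equiv a2 e2
    have hprod : Nonempty ((X ⧸ zpowers (ρ ^ 3)) ≃* Equiv.Perm (Fin 4) × Multiplicative (ZMod 2)) := by
      refine prod_equiv (A := M) (B := zpowers (π w)) ?_ ?_ hsup eM f2
      · intro a _ b hb
        rcases mem_zpowers_invol a2 hb with rfl | rfl
        · rw [one_mul, mul_one]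
        · exact hwc' a
      · rw [eq_bot_iff]
        rintro y ⟨h1, h2⟩
        rw [mem_bot]
        rcases mem_zpowers_invol a2 h2 with rfl | rfl
        · rfl
        · exact absurd h1 hwM
    obtain ⟨e⟩ := hprod
    refine quot_equiv (e.toMonoidHom.comp π) (e.surjective.comp hπs) ?_ (pPrimeCore_prod pPrimeCore_permFour pPrimeCore_C2)
    have h1 : (e.toMonoidHom.comp π).ker = zpowers (ρ ^ 3) := by
      ext y
      rw [MonoidHom.mem_ker, ← hπ1]
      show e (π y) = 1 ↔ _
      exact map_eq_one_iff e e.injective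
    rw [h1]
    exact hkerodd

end Cfsg.Agent.H581.Sims
end

-- part: H581/SimsE
section
/-!
# Sims' theorem (Tutte's theorem with dihedral local action)

`final`: `G` finite, `P ≤ G`, `g ∈ G` with `|P : P ∩ gPg⁻¹| = 2`, `H = ⟨P, gPg⁻¹⟩`, `|H : P|` odd, and no non-identity
subgroup of `P` is normal in both `H` and `gHg⁻¹`. Then `P` has order 2, 4, 8 or 16, and in the last three cases
`H / O(H)` is `C₂ × C₂`, `S₄`, `S₄ × C₂` respectively.
-/

set_option autoImplicit false

open Pointwise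

namespace Cfsg.Agent.H581.Sims

variable {G : Type*} [Group G]

theorem mem_closure_of {H : Subgroup G} {A : Set H} {y : H} (h : (y : G) ∈ Subgroup.closure (H.subtype '' A)) :
    y ∈ Subgroup.closure A := by
  rw [← MonoidHom.map_closure] at h
  obtain ⟨y', hy', h⟩ := h
  have : y' = y := Subtype.ext h
  rwa [this] at hy'

theorem gen_top {H : Subgroup G} {A : Set H} (h : H ≤ Subgroup.closure (H.subtype '' A)) :
    Subgroup.closure A = ⊤ := by
  rw [eq_top_iff]
  intro y _
  exact mem_closure_of (h y.2)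

theorem eq_of_swap {r y y' : G} (h1 : r * y * r⁻¹ = y') (h2 : r * y' * r⁻¹ = y) {k : ℕ} (hk : Odd k)
    (hc : Commute (r ^ k) y) : y = y' := by
  obtain ⟨j, rfl⟩ := hk
  have h3 : Commute (r ^ 2) y := by
    show r ^ 2 * y = y * r ^ 2
    rw [← mul_inv_eq_iff_eq_mul]
    calc r ^ 2 * y * (r ^ 2)⁻¹ = r * (r * y * r⁻¹) * r⁻¹ := by rw [pow_two]; group
      _ = y := by rw [h1, h2]
  have h4 : Commute (r ^ (2 * j)) y := by rw [pow_mul]; exact h3.pow_left j
  have h5 : r ^ (2 * j + 1) * y * (r ^ (2 * j + 1))⁻¹ = y := by rw [hc.eq, mul_inv_cancel_right]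
  have h6 : r ^ (2 * j + 1) * y * (r ^ (2 * j + 1))⁻¹ = y' := by
    rw [pow_succ']
    calc r * r ^ (2 * j) * y * (r * r ^ (2 * j))⁻¹ = r * (r ^ (2 * j) * y) * (r ^ (2 * j))⁻¹ * r⁻¹ := by group
      _ = r * y * r⁻¹ := by rw [h4.eq]; group
      _ = y' := h1
  rw [← h5, h6]

namespace Data

variable {g a : G} {N : ℕ} {T : ℕ → Subgroup G}

/-- The rotation of the dihedral quotient has odd order. -/
theorem exists_odd [Finite G] (hD : Data g a (N + 1) T) (H : Subgroup G) (hH : H = S g T 0 (N + 1) ⊔ S g T 1 (N + 1))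
    (hodd : ¬ 2 ∣ (S g T 0 (N + 1)).relIndex H) :
    ∃ k, Odd k ∧ (el g a 0 * el g a (N + 1)) ^ k ∈ S g T 1 N := by
  have h0H : S g T 0 (N + 1) ≤ H := by rw [hH]; exact le_sup_left
  have h1H : S g T 1 (N + 1) ≤ H := by rw [hH]; exact le_sup_right
  have hQ0 : S g T 1 N ≤ S g T 0 (N + 1) := by
    have := hD.S_cle 0 (m := N) (by omega)
    rwa [zero_add] at this
  have hQH : S g T 1 N ≤ H := hQ0.trans h0H
  have hn : ((S g T 1 N).subgroupOf H).Normal := by
    rw [Subgroup.normal_subgroupOf_iff_le_normalizer hQH, hH, sup_le_iff]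
    constructor
    · have := hD.le_normalizer_left 0 (m := N) (by omega)
      rwa [zero_add] at this
    · exact hD.le_normalizer_right 1 (m := N) (by omega)
  have x0 : el g a 0 ∈ H := h0H (hD.el_mem le_rfl (by push_cast; omega) le_rfl)
  have z0 : el g a (N + 1) ∈ H := h1H (hD.el_mem (by omega) (by push_cast; omega) le_rfl)
  set Q := (S g T 1 N).subgroupOf H with hQ
  have hcard : Nat.card (H ⧸ Q) = 2 * (S g T 0 (N + 1)).relIndex H := by
    have h1 : Nat.card (H ⧸ Q) = (S g T 1 N).relIndex H := rfl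
    rw [h1, ← Subgroup.relIndex_mul_relIndex _ _ _ hQ0 h0H]
    congr 1
    have := hD.relIndex_left 0 (m := N) (by omega)
    rwa [zero_add] at this
  have h4 : ¬ 4 ∣ Nat.card (H ⧸ Q) := by
    rw [hcard]
    intro h
    apply hodd
    omega
  have hxQ : el g a 0 ∉ S g T 1 N := hD.el_notMem_left (by norm_num) (by push_cast; omega)
  have hzQ : el g a (N + 1) ∉ S g T 1 N := hD.el_notMem_right (by omega) (by push_cast; omega)
  have hk := odd_orderOf h4 (x := (QuotientGroup.mk ⟨el g a 0, x0⟩ : H ⧸ Q)) (z := QuotientGroup.mk ⟨el g a (N + 1), z0⟩)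
    (by
      rw [← QuotientGroup.mk_mul]
      have : (⟨el g a 0, x0⟩ : H) * ⟨el g a 0, x0⟩ = 1 := Subtype.ext (hD.el_sq 0)
      rw [this, QuotientGroup.mk_one])
    (by
      rw [← QuotientGroup.mk_mul]
      have : (⟨el g a (N + 1), z0⟩ : H) * ⟨el g a (N + 1), z0⟩ = 1 := Subtype.ext (hD.el_sq _)
      rw [this, QuotientGroup.mk_one])
    (by rw [Ne, QuotientGroup.eq_one_iff]; exact hxQ)
    (by rw [Ne, QuotientGroup.eq_one_iff]; exact hzQ)
  refine ⟨_, hk, ?_⟩
  have h5 := pow_orderOf_eq_one ((QuotientGroup.mk ⟨el g a 0, x0⟩ : H ⧸ Q) * QuotientGroup.mk ⟨el g a (N + 1), z0⟩)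
  rw [← QuotientGroup.mk_mul, ← QuotientGroup.mk_pow, QuotientGroup.eq_one_iff] at h5
  exact h5

end Data

/-- **Sims' theorem**, for dihedral local action. -/
theorem final [Finite G] (P : Subgroup G) (g : G) (H : Subgroup G) (hH : H = P ⊔ MulAut.conj g • P)
    (h2 : (MulAut.conj g • P).relIndex P = 2)
    (hU : ∀ X : Subgroup G, X ≤ P → H ≤ Subgroup.normalizer (X : Set G) →
      MulAut.conj g • H ≤ Subgroup.normalizer (X : Set G) → X = ⊥)
    (hodd : ¬ 2 ∣ P.relIndex H) :
    Nat.card P = 2 ∨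
    (Nat.card P = 4 ∧ Nonempty (↥H ⧸ Cfsg.oddCore ↥H ≃* Multiplicative (ZMod 2) × Multiplicative (ZMod 2))) ∨
    (Nat.card P = 8 ∧ Nonempty (↥H ⧸ Cfsg.oddCore ↥H ≃* Equiv.Perm (Fin 4))) ∨
    (Nat.card P = 16 ∧ Nonempty (↥H ⧸ Cfsg.oddCore ↥H ≃* Equiv.Perm (Fin 4) × Multiplicative (ZMod 2))) := by
  obtain ⟨N, T, hC, hTN, hpos⟩ := exists_chain P g h2 (by
    intro X hX hPX hgX
    have h1 : MulAut.conj g • P ≤ Subgroup.normalizer (X : Set G) := by
      have := Subgroup.pointwise_smul_le_pointwise_smul_iff (a := MulAut.conj g) |>.2 hPX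
      rwa [smul_normalizer, hgX] at this
    have h3 : H ≤ Subgroup.normalizer (X : Set G) := by
      rw [hH]
      exact sup_le hPX h1
    refine hU X hX h3 ?_
    have := Subgroup.pointwise_smul_le_pointwise_smul_iff (a := MulAut.conj g) |>.2 h3
    rwa [smul_normalizer, hgX] at this)
  obtain ⟨a, hD⟩ := hC.exists_data hpos
  have hS0 : S g T 0 N = P := by rw [S_zero, hTN]
  have hS1 : S g T 1 N = MulAut.conj g • P := by
    rw [← hS0, conj_S_one, zero_add]
  have hS2 : S g T 2 N = MulAut.conj g • MulAut.conj g • P := by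
    rw [← hS1, conj_S_one]
    norm_num
  have hcardP : Nat.card P = 2 ^ N := by rw [← hTN, hC.card N le_rfl]
  have hmain := hD.main (by
    intro X hX h0 h1 h3
    rw [hS0] at hX h0
    rw [hS1] at h1
    rw [hS2] at h3
    refine hU X hX ?_ ?_
    · rw [hH]; exact sup_le h0 h1
    · rw [hH, Subgroup.smul_sup]; exact sup_le h1 h3)
  have hHS : H = S g T 0 N ⊔ S g T 1 N := by rw [hS0, hS1, hH]
  have hodd' : ¬ 2 ∣ (S g T 0 N).relIndex H := by rwa [hS0]
  clear hS2
  -- membership of the involutions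
  have hmem : ∀ i : ℤ, 0 ≤ i → i ≤ N → el g a i ∈ H := by
    intro i h0 h1
    rw [hHS]
    rcases h1.lt_or_eq with h | h
    · exact Subgroup.mem_sup_left (hD.el_mem h0 (by omega) le_rfl)
    · exact Subgroup.mem_sup_right (hD.el_mem (by omega) (by omega) le_rfl)
  have hle : ∀ Y : Subgroup G, (∀ i : ℤ, 0 ≤ i → i ≤ N → el g a i ∈ Y) → H ≤ Y := by
    intro Y hY
    rw [hHS]
    refine sup_le (hD.le_of_gen Y 0 N le_rfl fun i h0 h1 => hY i h0 (by omega))
      (hD.le_of_gen Y 1 N le_rfl fun i h0 h1 => hY i (by omega) (by omega))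
  rcases hmain with rfl | ⟨rfl, h01⟩ | ⟨rfl, h01, hc⟩ | ⟨rfl, h01, h02, hc1, hc⟩
  · left
    rw [hcardP, pow_one]
  · -- N = 2
    right; left
    refine ⟨by rw [hcardP]; norm_num, ?_⟩
    obtain ⟨k, hk, hrk⟩ := hD.exists_odd (N := 1) H hHS hodd'
    have e2 : ((1 : ℕ) : ℤ) + 1 = 2 := by norm_num
    rw [e2] at hrk
    have hm : ∀ d : ℕ, 1 ≤ d → d ≤ 1 → Commute (el g a 0) (el g a d) := by
      intro d h1 h2
      have : d = 1 := by omega
      subst this
      simpa using h01
    have m0 := hmem 0 (by norm_num) (by norm_num)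
    have m1 := hmem 1 (by norm_num) (by norm_num)
    have m2 := hmem 2 (by norm_num) (by norm_num)
    have hcen : ∀ y : H, y * ⟨el g a 1, m1⟩ = ⟨el g a 1, m1⟩ * y := by
      intro y
      have h1 : H ≤ Subgroup.centralizer ({el g a 1} : Set G) := by
        refine hle _ fun i h0 h1 => Subgroup.mem_centralizer_singleton_iff.2 ?_
        exact (comm_of hm (i := i) (j := 1) (by push_cast at *; omega) (by push_cast at *; omega)).eq
      exact Subtype.ext (Subgroup.mem_centralizer_singleton_iff.1 (h1 y.2))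
    refine core_two (x := (⟨el g a 0, m0⟩ : H)) (z := ⟨el g a 2, m2⟩) (q := ⟨el g a 1, m1⟩) (Subtype.ext (hD.el_sq 0))
      (Subtype.ext (hD.el_sq 2)) (Subtype.ext (hD.el_sq 1)) hcen ?_ ?_ ?_ ?_ hk ?_
    · refine gen_top (hle _ fun i h0 h1 => ?_)
      have h3 : i = 0 ∨ i = 1 ∨ i = 2 := by push_cast at h1; omega
      rcases h3 with rfl | rfl | rfl
      · exact Subgroup.subset_closure ⟨⟨el g a 0, m0⟩, by simp, rfl⟩
      · exact Subgroup.subset_closure ⟨⟨el g a 1, m1⟩, by simp, rfl⟩
      · exact Subgroup.subset_closure ⟨⟨el g a 2, m2⟩, by simp, rfl⟩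
    · intro h
      exact hD.el_ne 0 (congrArg Subtype.val h)
    · intro h
      exact hD.el_ne 1 (congrArg Subtype.val h)
    · intro h
      have h1 : el g a 0 = el g a 1 := congrArg Subtype.val h
      have h3 : el g a 0 ∉ S g T 1 1 := hD.el_notMem_left (by norm_num) (by norm_num)
      exact h3 ((hD.mem_one 1 _).2 (Or.inr h1))
    · rcases (hD.mem_one 1 _).1 hrk with h | h
      · have : ((⟨el g a 0, m0⟩ : H) * ⟨el g a 2, m2⟩) ^ k = 1 := Subtype.ext h
        rw [this]
        exact one_mem _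
      · have : ((⟨el g a 0, m0⟩ : H) * ⟨el g a 2, m2⟩) ^ k = ⟨el g a 1, m1⟩ := Subtype.ext h
        rw [this]
        exact Subgroup.mem_zpowers _
  · -- N = 3
    right; right; left
    refine ⟨by rw [hcardP]; norm_num, ?_⟩
    obtain ⟨k, hk, hrk⟩ := hD.exists_odd (N := 2) H hHS hodd'
    have e2 : ((2 : ℕ) : ℤ) + 1 = 3 := by norm_num
    rw [e2] at hrk
    have hm : ∀ d : ℕ, 1 ≤ d → d ≤ 1 → Commute (el g a 0) (el g a d) := by
      intro d h1 h2
      have : d = 1 := by omega
      subst this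
      simpa using h01
    have c12 := (comm_of hm (i := 1) (j := 2) (by norm_num) (by norm_num)).eq
    have c01 := (comm_of hm (i := 0) (j := 1) (by norm_num) (by norm_num)).eq
    have c32 := (comm_of hm (i := 3) (j := 2) (by norm_num) (by norm_num)).eq
    have hc' : cm g a 1 3 = el g a 2 := by
      have h1 := cm_conj (g := g) (a := a) 0 2 1
      rw [hc, el_conj] at h1
      norm_num at h1
      exact h1.symm
    have m0 := hmem 0 (by norm_num) (by norm_num)
    have m1 := hmem 1 (by norm_num) (by norm_num)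
    have m2 := hmem 2 (by norm_num) (by norm_num)
    have m3 := hmem 3 (by norm_num) (by norm_num)
    have r1 : el g a 0 * el g a 2 * (el g a 0)⁻¹ = el g a 1 * el g a 2 := by
      rw [← hc]
      unfold cm
      group
    have r2 : el g a 3 * el g a 1 * (el g a 3)⁻¹ = el g a 1 * el g a 2 := by
      have h1 : el g a 3 * el g a 1 * (el g a 3)⁻¹ = (cm g a 1 3)⁻¹ * el g a 1 := by
        unfold cm
        group
      rw [h1, hc', hD.el_inv, c12]
    have hfour := core_four (x := (⟨el g a 0, m0⟩ : H)) (z := ⟨el g a 3, m3⟩) (u := ⟨el g a 1, m1⟩) (v := ⟨el g a 2, m2⟩)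
      (w := 1) (Subtype.ext (hD.el_sq 0)) (Subtype.ext (hD.el_sq 3)) (Subtype.ext (hD.el_sq 1))
      (Subtype.ext (hD.el_sq 2)) (one_mul 1) (Subtype.ext c12) (Subtype.ext c01) (Subtype.ext r1) (Subtype.ext c32)
      (Subtype.ext r2) (fun y => by rw [mul_one, one_mul]) ?_ (fun h => hD.el_ne 2 (congrArg Subtype.val h)) hk ?_
    · rcases hfour with ⟨_, h⟩ | ⟨h, _⟩
      · exact h
      · exact absurd rfl h
    · refine gen_top (hle _ fun i h0 h1 => ?_)
      have h3 : i = 0 ∨ i = 1 ∨ i = 2 ∨ i = 3 := by push_cast at h1; omega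
      rcases h3 with rfl | rfl | rfl | rfl
      · exact Subgroup.subset_closure ⟨⟨el g a 0, m0⟩, by simp, rfl⟩
      · exact Subgroup.subset_closure ⟨⟨el g a 1, m1⟩, by simp, rfl⟩
      · exact Subgroup.subset_closure ⟨⟨el g a 2, m2⟩, by simp, rfl⟩
      · exact Subgroup.subset_closure ⟨⟨el g a 3, m3⟩, by simp, rfl⟩
    · refine mem_closure_of ?_
      refine (hD.le_of_gen _ 1 2 (by norm_num) fun i h0 h1 => ?_) hrk
      have h3 : i = 1 ∨ i = 2 := by push_cast at h1; omega
      rcases h3 with rfl | rfl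
      · exact Subgroup.subset_closure ⟨⟨el g a 1, m1⟩, by simp, rfl⟩
      · exact Subgroup.subset_closure ⟨⟨el g a 2, m2⟩, by simp, rfl⟩
  · -- N = 4
    right; right; right
    refine ⟨by rw [hcardP]; norm_num, ?_⟩
    obtain ⟨k, hk, hrk⟩ := hD.exists_odd (N := 3) H hHS hodd'
    have e2 : ((3 : ℕ) : ℤ) + 1 = 4 := by norm_num
    rw [e2] at hrk
    have hm : ∀ d : ℕ, 1 ≤ d → d ≤ 2 → Commute (el g a 0) (el g a d) := by
      intro d h1 h2
      have : d = 1 ∨ d = 2 := by omega
      rcases this with rfl | rfl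
      · simpa using h01
      · simpa using h02
    have cc : ∀ i j : ℤ, i - j ≤ 2 → j - i ≤ 2 → el g a i * el g a j = el g a j * el g a i :=
      fun i j h1 h2 => (comm_of hm (by push_cast; omega) (by push_cast; omega)).eq
    have m0 := hmem 0 (by norm_num) (by norm_num)
    have m1 := hmem 1 (by norm_num) (by norm_num)
    have m2 := hmem 2 (by norm_num) (by norm_num)
    have m3 := hmem 3 (by norm_num) (by norm_num)
    have m4 := hmem 4 (by norm_num) (by norm_num)
    have s1 := hD.el_sq 1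
    have s2 := hD.el_sq 2
    have s3 := hD.el_sq 3
    have hcom : ∀ i : ℤ, 1 ≤ i → i ≤ 3 → Commute ((el g a 0 * el g a 4) ^ k) (el g a i) := by
      intro i h1 h3
      exact (hD.centralize (el g a i) 1 3 (by norm_num)
        (fun j hj1 hj2 => comm_of hm (by push_cast at *; omega) (by push_cast at *; omega)) hrk).symm
    have hcs : cm g a 1 4 = g ^ (1 : ℤ) * cm g a 0 3 * (g ^ (1 : ℤ))⁻¹ := by
      have h1 := cm_conj (g := g) (a := a) 0 3 1
      norm_num at h1
      rw [zpow_one]
      exact h1.symm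
    have r03 : el g a 0 * el g a 3 * (el g a 0)⁻¹ = cm g a 0 3 * el g a 3 := by
      unfold cm
      group
    have r41 : el g a 4 * el g a 1 * (el g a 4)⁻¹ = (cm g a 1 4)⁻¹ * el g a 1 := by
      unfold cm
      group
    have r01 : el g a 0 * el g a 1 * (el g a 0)⁻¹ = el g a 1 := by rw [cc 0 1 (by norm_num) (by norm_num), mul_inv_cancel_right]
    have r02 : el g a 0 * el g a 2 * (el g a 0)⁻¹ = el g a 2 := by rw [cc 0 2 (by norm_num) (by norm_num), mul_inv_cancel_right]
    have r42 : el g a 4 * el g a 2 * (el g a 4)⁻¹ = el g a 2 := by rw [cc 4 2 (by norm_num) (by norm_num), mul_inv_cancel_right]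
    have r43 : el g a 4 * el g a 3 * (el g a 4)⁻¹ = el g a 3 := by rw [cc 4 3 (by norm_num) (by norm_num), mul_inv_cancel_right]
    -- identify the commutator
    have hc3 : cm g a 0 3 = el g a 1 * el g a 2 := by
      have n2 : el g a 2 ∉ S g T 1 1 := hD.el_notMem_right (by norm_num) (by norm_num)
      have cases3 : cm g a 0 3 = el g a 1 ∨ cm g a 0 3 = el g a 2 ∨ cm g a 0 3 = el g a 1 * el g a 2 := by
        by_cases h : cm g a 0 3 ∈ S g T 1 1
        · rcases (hD.mem_one 1 _).1 h with h | h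
          · exact absurd h hc1
          · exact Or.inl h
        · have h3 := div_mem_two (hD.relIndex_right 1 (m := 1) (by norm_num))
            (hD.el_mem (i := 2) (k := 1) (m := 2) (by norm_num) (by norm_num) (by norm_num)) n2 hc h
          rcases (hD.mem_one 1 _).1 h3 with h3 | h3
          · right; left
            exact mul_inv_eq_one.1 h3
          · right; right
            exact mul_inv_eq_iff_eq_mul.1 h3
      rcases cases3 with h | h | h
      · exfalso
        have h14 : cm g a 1 4 = el g a 2 := by rw [hcs, h, el_conj]; norm_num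
        rw [h14, hD.el_inv 2] at r41
        have t1 : (el g a 0 * el g a 4) * el g a 1 * (el g a 0 * el g a 4)⁻¹ = el g a 2 * el g a 1 := by
          calc (el g a 0 * el g a 4) * el g a 1 * (el g a 0 * el g a 4)⁻¹
              = el g a 0 * (el g a 4 * el g a 1 * (el g a 4)⁻¹) * (el g a 0)⁻¹ := by group
            _ = (el g a 0 * el g a 2 * (el g a 0)⁻¹) * (el g a 0 * el g a 1 * (el g a 0)⁻¹) := by rw [r41]; group
            _ = _ := by rw [r02, r01]
        have t2 : (el g a 0 * el g a 4) * el g a 2 * (el g a 0 * el g a 4)⁻¹ = el g a 2 := by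
          calc (el g a 0 * el g a 4) * el g a 2 * (el g a 0 * el g a 4)⁻¹
              = el g a 0 * (el g a 4 * el g a 2 * (el g a 4)⁻¹) * (el g a 0)⁻¹ := by group
            _ = _ := by rw [r42, r02]
        have t3 : (el g a 0 * el g a 4) * (el g a 2 * el g a 1) * (el g a 0 * el g a 4)⁻¹ = el g a 1 := by
          calc (el g a 0 * el g a 4) * (el g a 2 * el g a 1) * (el g a 0 * el g a 4)⁻¹
              = ((el g a 0 * el g a 4) * el g a 2 * (el g a 0 * el g a 4)⁻¹) *
                ((el g a 0 * el g a 4) * el g a 1 * (el g a 0 * el g a 4)⁻¹) := by group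
            _ = el g a 1 := by rw [t2, t1, ← mul_assoc, s2, one_mul]
        have t4 := eq_of_swap t1 t3 hk (hcom 1 (by norm_num) (by norm_num))
        exact hD.el_ne 2 (right_eq_mul.1 t4)
      · exfalso
        rw [h] at r03
        have t1 : (el g a 0 * el g a 4) * el g a 3 * (el g a 0 * el g a 4)⁻¹ = el g a 2 * el g a 3 := by
          calc (el g a 0 * el g a 4) * el g a 3 * (el g a 0 * el g a 4)⁻¹
              = el g a 0 * (el g a 4 * el g a 3 * (el g a 4)⁻¹) * (el g a 0)⁻¹ := by group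
            _ = _ := by rw [r43, r03]
        have t2 : (el g a 0 * el g a 4) * el g a 2 * (el g a 0 * el g a 4)⁻¹ = el g a 2 := by
          calc (el g a 0 * el g a 4) * el g a 2 * (el g a 0 * el g a 4)⁻¹
              = el g a 0 * (el g a 4 * el g a 2 * (el g a 4)⁻¹) * (el g a 0)⁻¹ := by group
            _ = _ := by rw [r42, r02]
        have t3 : (el g a 0 * el g a 4) * (el g a 2 * el g a 3) * (el g a 0 * el g a 4)⁻¹ = el g a 3 := by
          calc (el g a 0 * el g a 4) * (el g a 2 * el g a 3) * (el g a 0 * el g a 4)⁻¹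
              = ((el g a 0 * el g a 4) * el g a 2 * (el g a 0 * el g a 4)⁻¹) *
                ((el g a 0 * el g a 4) * el g a 3 * (el g a 0 * el g a 4)⁻¹) := by group
            _ = el g a 3 := by rw [t2, t1, ← mul_assoc, s2, one_mul]
        have t4 := eq_of_swap t1 t3 hk (hcom 3 (by norm_num) (by norm_num))
        exact hD.el_ne 2 (right_eq_mul.1 t4)
      · exact h
    have hc14 : cm g a 1 4 = el g a 2 * el g a 3 := by
      rw [hcs, hc3]
      have : g ^ (1 : ℤ) * (el g a 1 * el g a 2) * (g ^ (1 : ℤ))⁻¹ =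
          (g ^ (1 : ℤ) * el g a 1 * (g ^ (1 : ℤ))⁻¹) * (g ^ (1 : ℤ) * el g a 2 * (g ^ (1 : ℤ))⁻¹) := by group
      rw [this, el_conj, el_conj]
      norm_num
    rw [hc3] at r03
    rw [hc14, mul_inv_rev, hD.el_inv 3, hD.el_inv 2] at r41
    have c12 := cc 1 2 (by norm_num) (by norm_num)
    have c13 := cc 1 3 (by norm_num) (by norm_num)
    have c23 := cc 2 3 (by norm_num) (by norm_num)
    -- the elements `u = a₁a₂`, `v = a₂a₃`, `w = a₂`
    have su : el g a 1 * el g a 2 * (el g a 1 * el g a 2) = 1 := by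
      calc el g a 1 * el g a 2 * (el g a 1 * el g a 2) = el g a 1 * (el g a 2 * el g a 1) * el g a 2 := by group
        _ = el g a 1 * (el g a 1 * el g a 2) * el g a 2 := by rw [c12]
        _ = (el g a 1 * el g a 1) * (el g a 2 * el g a 2) := by group
        _ = 1 := by rw [s1, s2, one_mul]
    have sv : el g a 2 * el g a 3 * (el g a 2 * el g a 3) = 1 := by
      calc el g a 2 * el g a 3 * (el g a 2 * el g a 3) = el g a 2 * (el g a 3 * el g a 2) * el g a 3 := by group
        _ = el g a 2 * (el g a 2 * el g a 3) * el g a 3 := by rw [c23]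
        _ = (el g a 2 * el g a 2) * (el g a 3 * el g a 3) := by group
        _ = 1 := by rw [s2, s3, one_mul]
    have uv13 : el g a 1 * el g a 2 * (el g a 2 * el g a 3) = el g a 1 * el g a 3 := by
      rw [mul_assoc, ← mul_assoc (el g a 2), s2, one_mul]
    have vu13 : el g a 2 * el g a 3 * (el g a 1 * el g a 2) = el g a 1 * el g a 3 := by
      calc el g a 2 * el g a 3 * (el g a 1 * el g a 2) = el g a 2 * (el g a 3 * el g a 1) * el g a 2 := by group
        _ = el g a 2 * (el g a 1 * el g a 3) * el g a 2 := by rw [c13]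
        _ = (el g a 2 * el g a 1) * (el g a 3 * el g a 2) := by group
        _ = (el g a 1 * el g a 2) * (el g a 2 * el g a 3) := by rw [c12, c23]
        _ = _ := uv13
    have xu : el g a 0 * (el g a 1 * el g a 2) = el g a 1 * el g a 2 * el g a 0 := by
      rw [← mul_assoc, cc 0 1 (by norm_num) (by norm_num), mul_assoc, cc 0 2 (by norm_num) (by norm_num), mul_assoc]
    have xv : el g a 0 * (el g a 2 * el g a 3) * (el g a 0)⁻¹ = el g a 1 * el g a 2 * (el g a 2 * el g a 3) := by
      calc el g a 0 * (el g a 2 * el g a 3) * (el g a 0)⁻¹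
          = (el g a 0 * el g a 2 * (el g a 0)⁻¹) * (el g a 0 * el g a 3 * (el g a 0)⁻¹) := by group
        _ = el g a 2 * (el g a 1 * el g a 2) * el g a 3 := by rw [r02, r03]; group
        _ = (el g a 2 * el g a 1) * el g a 2 * el g a 3 := by group
        _ = _ := by rw [← c12]; group
    have zv : el g a 4 * (el g a 2 * el g a 3) = el g a 2 * el g a 3 * el g a 4 := by
      rw [← mul_assoc, cc 4 2 (by norm_num) (by norm_num), mul_assoc, cc 4 3 (by norm_num) (by norm_num), mul_assoc]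
    have zu : el g a 4 * (el g a 1 * el g a 2) * (el g a 4)⁻¹ = el g a 1 * el g a 2 * (el g a 2 * el g a 3) := by
      calc el g a 4 * (el g a 1 * el g a 2) * (el g a 4)⁻¹
          = (el g a 4 * el g a 1 * (el g a 4)⁻¹) * (el g a 4 * el g a 2 * (el g a 4)⁻¹) := by group
        _ = el g a 3 * el g a 2 * el g a 1 * el g a 2 := by rw [r41, r42]
        _ = (el g a 2 * el g a 3) * (el g a 1 * el g a 2) := by rw [c23]; group
        _ = _ := by rw [vu13, uv13]
    have hcen : ∀ y : H, y * ⟨el g a 2, m2⟩ = ⟨el g a 2, m2⟩ * y := by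
      intro y
      have h1 : H ≤ Subgroup.centralizer ({el g a 2} : Set G) := by
        refine hle _ fun i h0 h1 => Subgroup.mem_centralizer_singleton_iff.2 ?_
        exact cc i 2 (by push_cast at *; omega) (by push_cast at *; omega)
      exact Subtype.ext (Subgroup.mem_centralizer_singleton_iff.1 (h1 y.2))
    have hv1 : el g a 2 * el g a 3 ≠ 1 := by
      intro h
      have h1 : el g a 3 = el g a 2 := by
        rw [mul_eq_one_iff_eq_inv, hD.el_inv] at h
        exact h.symm
      have h3 : el g a 2 ∉ S g T 3 1 := hD.el_notMem_left (by norm_num) (by norm_num)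
      exact h3 ((hD.mem_one 3 _).2 (Or.inr h1.symm))
    have hfour := core_four (x := (⟨el g a 0, m0⟩ : H)) (z := ⟨el g a 4, m4⟩)
      (u := (⟨el g a 1, m1⟩ : H) * ⟨el g a 2, m2⟩) (v := (⟨el g a 2, m2⟩ : H) * ⟨el g a 3, m3⟩)
      (w := ⟨el g a 2, m2⟩) (Subtype.ext (hD.el_sq 0)) (Subtype.ext (hD.el_sq 4)) (Subtype.ext su)
      (Subtype.ext sv) (Subtype.ext s2) (Subtype.ext (uv13.trans vu13.symm)) (Subtype.ext xu) (Subtype.ext xv)
      (Subtype.ext zv) (Subtype.ext zu) hcen ?_ (fun h => hv1 (congrArg Subtype.val h)) hk ?_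
    · rcases hfour with ⟨h, _⟩ | ⟨_, h⟩
      · exact absurd (congrArg Subtype.val h) (hD.el_ne 2)
      · exact h
    · refine gen_top (hle _ fun i h0 h1 => ?_)
      set A : Set H := {(⟨el g a 0, m0⟩ : H), ⟨el g a 4, m4⟩, (⟨el g a 1, m1⟩ : H) * ⟨el g a 2, m2⟩,
        (⟨el g a 2, m2⟩ : H) * ⟨el g a 3, m3⟩, ⟨el g a 2, m2⟩} with hA
      have a2 : el g a 2 ∈ Subgroup.closure (H.subtype '' A) := Subgroup.subset_closure ⟨⟨el g a 2, m2⟩, by simp [hA], rfl⟩
      have h3 : i = 0 ∨ i = 1 ∨ i = 2 ∨ i = 3 ∨ i = 4 := by push_cast at h1; omega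
      rcases h3 with rfl | rfl | rfl | rfl | rfl
      · exact Subgroup.subset_closure ⟨⟨el g a 0, m0⟩, by simp [hA], rfl⟩
      · have a12 : el g a 1 * el g a 2 ∈ Subgroup.closure (H.subtype '' A) :=
          Subgroup.subset_closure ⟨(⟨el g a 1, m1⟩ : H) * ⟨el g a 2, m2⟩, by simp [hA], rfl⟩
        have := mul_mem a12 (inv_mem a2)
        rwa [mul_inv_cancel_right] at this
      · exact a2
      · have a23 : el g a 2 * el g a 3 ∈ Subgroup.closure (H.subtype '' A) :=
          Subgroup.subset_closure ⟨(⟨el g a 2, m2⟩ : H) * ⟨el g a 3, m3⟩, by simp [hA], rfl⟩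
        have := mul_mem (inv_mem a2) a23
        rwa [inv_mul_cancel_left] at this
      · exact Subgroup.subset_closure ⟨⟨el g a 4, m4⟩, by simp [hA], rfl⟩
    · refine mem_closure_of ?_
      refine (hD.le_of_gen _ 1 3 (by norm_num) fun i h0 h1 => ?_) hrk
      set A : Set H := {(⟨el g a 1, m1⟩ : H) * ⟨el g a 2, m2⟩, (⟨el g a 2, m2⟩ : H) * ⟨el g a 3, m3⟩, ⟨el g a 2, m2⟩} with hA
      have a2 : el g a 2 ∈ Subgroup.closure (H.subtype '' A) := Subgroup.subset_closure ⟨⟨el g a 2, m2⟩, by simp [hA], rfl⟩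
      have h3 : i = 1 ∨ i = 2 ∨ i = 3 := by push_cast at h1; omega
      rcases h3 with rfl | rfl | rfl
      · have a12 : el g a 1 * el g a 2 ∈ Subgroup.closure (H.subtype '' A) :=
          Subgroup.subset_closure ⟨(⟨el g a 1, m1⟩ : H) * ⟨el g a 2, m2⟩, by simp [hA], rfl⟩
        have := mul_mem a12 (inv_mem a2)
        rwa [mul_inv_cancel_right] at this
      · exact a2
      · have a23 : el g a 2 * el g a 3 ∈ Subgroup.closure (H.subtype '' A) :=
          Subgroup.subset_closure ⟨(⟨el g a 2, m2⟩ : H) * ⟨el g a 3, m3⟩, by simp [hA], rfl⟩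
        have := mul_mem (inv_mem a2) a23
        rwa [inv_mul_cancel_left] at this

end Cfsg.Agent.H581.Sims
end
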